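import Mathlib

/-!
Spectral projections of linear maps of finite order invertible in the field.
-/

set_option autoImplicit false

namespace Cfsg.Agent.H75.GTwo.Eigen

open Module

variable {k V : Type*} [Field k] [AddCommGroup V] [Module k V]

/-- The projection onto the eigenspace of `μ`. -/
def proj (T : Module.End k V) (n : ℕ) (μ : k) : Module.End k V :=
  (n : k)⁻¹ • ∑ j ∈ Finset.range n, (μ⁻¹) ^ j • T ^ j

theorem proj_apply (T : Module.End k V) (n : ℕ) (μ : k) (v : V) :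
    proj T n μ v = (n : k)⁻¹ • ∑ j ∈ Finset.range n, (μ⁻¹) ^ j • (T ^ j) v := by
  simp [proj, LinearMap.sum_apply]

theorem pow_apply_of_eigen {T : Module.End k V} {ν : k} {v : V} (h : T v = ν • v) (j : ℕ) :
    (T ^ j) v = ν ^ j • v := by
  induction j with
  | zero => simp
  | succ j ih =>
    rw [pow_succ', Module.End.mul_apply, ih, map_smul, h, smul_smul, pow_succ]

theorem proj_mem {T : Module.End k V} {n : ℕ} {μ : k} (hT : T ^ n = 1) (hμ : μ ^ n = 1) (hn : n ≠ 0)
    (v : V) : T (proj T n μ v) = μ • proj T n μ v := by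
  have hμ0 : μ ≠ 0 := by
    rintro rfl
    rw [zero_pow hn] at hμ
    exact zero_ne_one hμ
  rw [proj_apply, map_smul, smul_comm μ]
  congr 1
  rw [map_sum, Finset.smul_sum]
  have e : ∀ j, T ((μ⁻¹) ^ j • (T ^ j) v) = μ • ((μ⁻¹) ^ (j + 1) • (T ^ (j + 1)) v) := fun j => by
    rw [map_smul, pow_succ' T, Module.End.mul_apply, smul_smul, pow_succ, mul_comm ((μ⁻¹) ^ j),
      ← mul_assoc, mul_inv_cancel₀ hμ0, one_mul]
  simp only [e, ← Finset.smul_sum]
  congr 1
  have h2 := Finset.sum_range_succ' (fun j => (μ⁻¹) ^ j • (T ^ j) v) n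
  rw [Finset.sum_range_succ] at h2
  simp only [pow_zero, one_smul, hT, inv_pow, hμ, inv_one] at h2
  simpa [inv_pow] using (add_right_cancel h2).symm

theorem proj_of_eigen {T : Module.End k V} {n : ℕ} {μ : k} (hn : (n : k) ≠ 0) (hμ0 : μ ≠ 0) {v : V}
    (h : T v = μ • v) : proj T n μ v = v := by
  rw [proj_apply]
  have : ∀ j ∈ Finset.range n, (μ⁻¹) ^ j • (T ^ j) v = v := fun j _ => by
    rw [pow_apply_of_eigen h, smul_smul, ← mul_pow, inv_mul_cancel₀ hμ0, one_pow, one_smul]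
  rw [Finset.sum_congr rfl this, Finset.sum_const, Finset.card_range, ← Nat.cast_smul_eq_nsmul k,
    smul_smul, inv_mul_cancel₀ hn, one_smul]

theorem proj_of_eigen_ne {T : Module.End k V} {n : ℕ} {μ ν : k} (hμ : μ ^ n = 1) (hν : ν ^ n = 1)
    (hne : ν ≠ μ) {v : V} (h : T v = ν • v) : proj T n μ v = 0 := by
  rcases eq_or_ne n 0 with rfl | hn
  · simp [proj]
  have hμ0 : μ ≠ 0 := by
    rintro rfl
    rw [zero_pow hn] at hμ
    exact zero_ne_one hμ
  have hne' : μ⁻¹ * ν ≠ 1 := by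
    intro e
    exact hne (by field_simp at e; exact e)
  have hs : ∑ j ∈ Finset.range n, (μ⁻¹ * ν) ^ j = 0 := by
    rw [geom_sum_eq hne', mul_pow, inv_pow, hμ, hν]
    simp
  rw [proj_apply, Finset.sum_congr rfl (fun j _ => by
    rw [pow_apply_of_eigen h, smul_smul, ← mul_pow]), ← Finset.sum_smul, hs, zero_smul, smul_zero]

theorem sum_proj {T : Module.End k V} {n : ℕ} {ζ : k} (hn : (n : k) ≠ 0) (hζ : IsPrimitiveRoot ζ n)
    (v : V) : ∑ i : Fin n, proj T n (ζ ^ (i : ℕ)) v = v := by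
  have hn0 : n ≠ 0 := by rintro rfl; simp at hn
  simp only [proj_apply, ← Finset.smul_sum]
  rw [Finset.sum_comm]
  have hcol : ∀ j ∈ Finset.range n, ∑ i : Fin n, ((ζ ^ (i : ℕ))⁻¹) ^ j • (T ^ j) v =
      if j = 0 then (n : k) • v else 0 := by
    intro j hj
    rw [← Finset.sum_smul]
    split
    · subst j; simp
    · rename_i hj0
      have hne : (ζ⁻¹) ^ j ≠ 1 := by
        rw [inv_pow, ne_eq, inv_eq_one]
        exact hζ.pow_ne_one_of_pos_of_lt hj0 (Finset.mem_range.1 hj)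
      have he : ∀ i : Fin n, ((ζ ^ (i : ℕ))⁻¹) ^ j = ((ζ⁻¹) ^ j) ^ (i : ℕ) := fun i => by
        rw [← inv_pow, ← pow_mul, ← pow_mul, mul_comm]
      rw [Finset.sum_congr rfl (fun i _ => he i), Fin.sum_univ_eq_sum_range (fun i => ((ζ⁻¹) ^ j) ^ i),
        geom_sum_eq hne, ← pow_mul, mul_comm j n, pow_mul, inv_pow, hζ.pow_eq_one]
      simp
  rw [Finset.sum_congr rfl hcol, Finset.sum_ite_eq', if_pos (Finset.mem_range.2 (Nat.pos_of_ne_zero hn0)),
    smul_smul, inv_mul_cancel₀ hn, one_smul]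

theorem proj_invariant {T : Module.End k V} {W : Submodule k V} (hW : ∀ w ∈ W, T w ∈ W) (n : ℕ) (μ : k)
    {w : V} (hw : w ∈ W) : proj T n μ w ∈ W := by
  rw [proj_apply]
  refine W.smul_mem _ (W.sum_mem fun j hj => W.smul_mem _ ?_)
  clear μ hj
  induction j with
  | zero => simpa using hw
  | succ j ih => rw [pow_succ', Module.End.mul_apply]; exact hW _ ih

/-- An invariant subspace is the sum of its eigenspaces. -/
theorem finrank_eq_sum [FiniteDimensional k V] {T : Module.End k V} {n : ℕ} {ζ : k}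
    (hn : (n : k) ≠ 0) (hζ : IsPrimitiveRoot ζ n) (hT : T ^ n = 1) {W : Submodule k V}
    (hW : ∀ w ∈ W, T w ∈ W) :
    finrank k ↥W = ∑ i : Fin n, finrank k ↥(W ⊓ T.eigenspace (ζ ^ (i : ℕ))) := by
  have hn0 : n ≠ 0 := by rintro rfl; simp at hn
  have hpow : ∀ i : Fin n, (ζ ^ (i : ℕ)) ^ n = 1 := fun i => by
    rw [← pow_mul, mul_comm, pow_mul, hζ.pow_eq_one, one_pow]
  let f : ↥W →ₗ[k] ((i : Fin n) → ↥(W ⊓ T.eigenspace (ζ ^ (i : ℕ)))) :=
    LinearMap.pi fun i => ((proj T n (ζ ^ (i : ℕ))).comp W.subtype).codRestrict _ fun w =>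
      ⟨proj_invariant hW _ _ w.2, Module.End.mem_eigenspace_iff.2 (proj_mem hT (hpow i) hn0 _)⟩
  have hbij : Function.Bijective f := by
    constructor
    · intro a b h
      apply Subtype.ext
      rw [← sum_proj (T := T) hn hζ (a : V), ← sum_proj (T := T) hn hζ (b : V)]
      exact Finset.sum_congr rfl fun i _ => congrArg Subtype.val (congrFun h i)
    · intro w
      refine ⟨⟨∑ i, (w i : V), W.sum_mem fun i _ => (w i).2.1⟩, funext fun i => Subtype.ext ?_⟩
      show proj T n (ζ ^ (i : ℕ)) (∑ j, (w j : V)) = w i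
      rw [map_sum, Finset.sum_eq_single i]
      · exact proj_of_eigen hn (pow_ne_zero _ (hζ.ne_zero hn0)) (Module.End.mem_eigenspace_iff.1 (w i).2.2)
      · intro j _ hj
        refine proj_of_eigen_ne (hpow i) (hpow j) (fun e => hj (Fin.ext (hζ.pow_inj j.2 i.2 e))) ?_
        exact Module.End.mem_eigenspace_iff.1 (w j).2.2
      · simp
  rw [LinearEquiv.finrank_eq (LinearEquiv.ofBijective f hbij), Module.finrank_pi_fintype]

end Cfsg.Agent.H75.GTwo.Eigen
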