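import Mathlib

/-!
Automorphisms of seven-power order of three-groups all of whose elementary abelian subgroups have order at most
nine, and lifts of elements normalising a three-subgroup.
-/

set_option autoImplicit false

namespace Cfsg.Agent.H75.GTwo.Three

open scoped commutatorElement

/-- Elementary abelian three-subgroups have order at most nine. -/
def RankTwo (G : Type*) [Group G] : Prop :=
  ∀ S : Subgroup G, Finite ↥S → (∀ a ∈ S, ∀ b ∈ S, a * b = b * a) → (∀ a ∈ S, a ^ 3 = 1) → Nat.card ↥S ≤ 9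

/-- An automorphism of seven-power order of a group of order `3 ^ i`, `i ≤ 5`, is trivial. -/
theorem aut_trivial {W : Type*} [Group W] [Finite W] (hW : IsPGroup 3 W) (hb : Nat.card W ≤ 243) (φ : MulAut W)
    {a : ℕ} (ha : φ ^ 7 ^ a = 1) (w : W) : φ w = w := by
  haveI : Fact (Nat.Prime 7) := ⟨by norm_num⟩
  haveI : Fact (Nat.Prime 3) := ⟨by norm_num⟩
  let P : Subgroup (MulAut W) := Subgroup.zpowers φ
  have hP : IsPGroup 7 ↥P := by
    obtain ⟨j, -, hj⟩ := (Nat.dvd_prime_pow (by norm_num)).1 (orderOf_dvd_of_pow_eq_one ha)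
    exact IsPGroup.of_card (n := j) (by rw [Nat.card_zpowers, hj])
  let Fx : Subgroup W := MonoidHom.eqLocus φ.toMonoidHom (MonoidHom.id W)
  have heq : MulAction.fixedPoints ↥P W = (Fx : Set W) := by
    ext v
    constructor
    · intro hv
      exact hv ⟨φ, Subgroup.mem_zpowers φ⟩
    · intro hv
      rintro ⟨q, hq⟩
      have : P ≤ MulAction.stabilizer (MulAut W) v := by
        rw [Subgroup.zpowers_le]
        exact hv
      exact this hq
  have hmod := hP.card_modEq_card_fixedPoints W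
  rw [heq] at hmod
  obtain ⟨i, hi⟩ := IsPGroup.iff_card.1 hW
  obtain ⟨j, hj⟩ := IsPGroup.iff_card.1 (hW.to_subgroup Fx)
  have hjc : Nat.card ↥(Fx : Set W) = 3 ^ j := hj
  rw [hjc, hi] at hmod
  have hji : j ≤ i := by
    have := Nat.le_of_dvd (by rw [hi]; positivity) (Subgroup.card_subgroup_dvd_card Fx)
    rw [hi, hj] at this
    exact (Nat.pow_le_pow_iff_right (by norm_num)).1 this
  have hi5 : i ≤ 5 := by
    rw [hi] at hb
    by_contra h
    have := Nat.pow_le_pow_right (show 0 < 3 by norm_num) (Nat.lt_of_not_le h)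
    norm_num at this
    omega
  have hij : j = i := by
    unfold Nat.ModEq at hmod
    interval_cases i <;> interval_cases j <;> first | rfl | (norm_num at hmod)
  have : Fx = ⊤ := Subgroup.eq_top_of_card_eq _ (by rw [hj, hi, hij])
  exact (this ▸ Subgroup.mem_top w : w ∈ Fx)

theorem mul_cube {Q : Type*} [Group Q] {x y : Q} (hc : ∀ g, ⁅y, x⁆ * g = g * ⁅y, x⁆) :
    (x * y) ^ 3 = ⁅y, x⁆ ^ 3 * x ^ 3 * y ^ 3 := by
  obtain ⟨c, hcdef⟩ : ∃ c, c = ⁅y, x⁆ := ⟨_, rfl⟩
  rw [← hcdef] at hc ⊢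
  have e : y * x = c * x * y := by rw [hcdef, commutatorElement_def]; group
  have cx : x * c = c * x := (hc x).symm
  have cy : y * c = c * y := (hc y).symm
  have cx' : ∀ r, x * (c * r) = c * (x * r) := fun r => by rw [← mul_assoc, cx, mul_assoc]
  have cy' : ∀ r, y * (c * r) = c * (y * r) := fun r => by rw [← mul_assoc, cy, mul_assoc]
  have e' : ∀ r, y * (x * r) = c * (x * (y * r)) := fun r => by rw [← mul_assoc, e]; simp only [mul_assoc]
  simp only [pow_succ, pow_zero, one_mul, mul_assoc, e', cx', cy']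

theorem comm_pow {Q : Type*} [Group Q] {x y : Q} (hc : ∀ g, ⁅y, x⁆ * g = g * ⁅y, x⁆) (n : ℕ) :
    ⁅y ^ n, x⁆ = ⁅y, x⁆ ^ n := by
  induction n with
  | zero => simp
  | succ n ih =>
    rw [pow_succ' y, commutatorElement_def, show y * y ^ n * x * (y * y ^ n)⁻¹ * x⁻¹ =
      y * (y ^ n * x * (y ^ n)⁻¹ * x⁻¹) * y⁻¹ * (y * x * y⁻¹ * x⁻¹) by group,
      ← commutatorElement_def, ← commutatorElement_def, ih, pow_succ]
    rw [show y * ⁅y, x⁆ ^ n = ⁅y, x⁆ ^ n * y from ((Commute.pow_left (hc y) n).eq).symm]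
    group

/-- An automorphism of seven-power order of a three-group of class at most two and rank at most two is trivial. -/
theorem class_two_trivial {M : Type*} [Group M] [Finite M] (hM : IsPGroup 3 M) (hr : RankTwo M)
    (hcl : ∀ x y g : M, ⁅x, y⁆ * g = g * ⁅x, y⁆) (φ : MulAut M) {a : ℕ} (ha : φ ^ 7 ^ a = 1) (m : M) :
    φ m = m := by
  haveI : Fact (Nat.Prime 3) := ⟨by norm_num⟩
  let W : Subgroup M :=
    { carrier := {x | x ^ 3 = 1}
      one_mem' := one_pow _
      mul_mem' := fun {x y} hx hy => by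
        show (x * y) ^ 3 = 1
        rw [mul_cube (hcl y x), hx, hy, ← comm_pow (hcl y x), hy]
        simp
      inv_mem' := fun {x} hx => by show x⁻¹ ^ 3 = 1; rw [inv_pow, hx, inv_one] }
  -- the bound on the elements of order dividing three
  have hW : Nat.card ↥W ≤ 243 := by
    let good : Set (Subgroup M) := {S | S ≤ W ∧ ∀ a ∈ S, ∀ b ∈ S, a * b = b * a}
    have hbot : (⊥ : Subgroup M) ∈ good := by
      refine ⟨bot_le, fun a ha b hb => ?_⟩
      rw [Subgroup.mem_bot] at ha hb; rw [ha, hb]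
    obtain ⟨A, hA⟩ := good.toFinite.exists_maximal ⟨_, hbot⟩
    have hA9 : Nat.card ↥A ≤ 9 := hr A inferInstance hA.1.2 fun a ha => hA.1.1 ha
    have hmax : ∀ w ∈ W, (∀ a ∈ A, w * a = a * w) → w ∈ A := by
      intro w hw hwA
      have hgood : A ⊔ Subgroup.zpowers w ∈ good := by
        refine ⟨sup_le hA.1.1 (Subgroup.zpowers_le.2 hw), ?_⟩
        have e : A ⊔ Subgroup.zpowers w = Subgroup.closure ((A : Set M) ∪ {w}) := by
          rw [Subgroup.closure_union, Subgroup.closure_eq, Subgroup.zpowers_eq_closure]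
        rw [e]
        have hcomm : ∀ p ∈ (A : Set M) ∪ {w}, ∀ q ∈ (A : Set M) ∪ {w}, p * q = q * p := by
          rintro p (hp | rfl) q (hq | rfl)
          · exact hA.1.2 p hp q hq
          · exact (hwA p hp).symm
          · exact hwA q hq
          · rfl
        intro p hp q hq
        have h1 : ∀ p' ∈ (A : Set M) ∪ {w}, Subgroup.closure ((A : Set M) ∪ {w}) ≤
            Subgroup.centralizer ({p'} : Set M) := fun p' hp' => by
          rw [Subgroup.closure_le]
          intro q' hq'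
          exact Subgroup.mem_centralizer_singleton_iff.2 (hcomm q' hq' p' hp')
        have h2 : Subgroup.closure ((A : Set M) ∪ {w}) ≤ Subgroup.centralizer ({q} : Set M) := by
          rw [Subgroup.closure_le]
          intro p' hp'
          exact Subgroup.mem_centralizer_singleton_iff.2 (Subgroup.mem_centralizer_singleton_iff.1 (h1 p' hp' hq)).symm
        exact Subgroup.mem_centralizer_singleton_iff.1 (h2 hp)
      exact (hA.2 hgood le_sup_left) (le_sup_right (a := A) (Subgroup.mem_zpowers w))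
    by_cases hcen : ∀ w ∈ W, ∀ a ∈ A, w * a = a * w
    · exact (Nat.le_of_eq (congrArg (fun S : Subgroup M => Nat.card ↥S)
        (le_antisymm (fun w hw => hmax w hw (hcen w hw)) hA.1.1))).trans (by omega)
    push Not at hcen
    obtain ⟨w0, hw0, a0, ha0, hne⟩ := hcen
    have hnc : ⁅w0, a0⁆ ≠ 1 := fun e => hne (commutatorElement_eq_one_iff_mul_comm.1 e)
    have hcW : ⁅w0, a0⁆ ∈ W := by
      rw [commutatorElement_def]
      exact W.mul_mem (W.mul_mem (W.mul_mem hw0 (hA.1.1 ha0)) (W.inv_mem hw0)) (W.inv_mem (hA.1.1 ha0))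
    have hcA : ⁅w0, a0⁆ ∈ A := hmax _ hcW fun b _ => hcl w0 a0 b
    let f : ↥W →* ↥A :=
      MonoidHom.mk' (fun w => ⟨⁅(w : M), a0⁆, hmax _ (by
        rw [commutatorElement_def]
        exact W.mul_mem (W.mul_mem (W.mul_mem w.2 (hA.1.1 ha0)) (W.inv_mem w.2)) (W.inv_mem (hA.1.1 ha0)))
          fun b _ => hcl w a0 b⟩) fun v w => Subtype.ext (by
        show ⁅(v : M) * w, a0⁆ = ⁅(v : M), a0⁆ * ⁅(w : M), a0⁆
        rw [commutatorElement_def, show (v : M) * w * a0 * ((v : M) * w)⁻¹ * a0⁻¹ =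
          v * ((w : M) * a0 * (w : M)⁻¹ * a0⁻¹) * (v : M)⁻¹ * ((v : M) * a0 * (v : M)⁻¹ * a0⁻¹) by group,
          ← commutatorElement_def, ← commutatorElement_def,
          show (v : M) * ⁅(w : M), a0⁆ = ⁅(w : M), a0⁆ * v from (hcl w a0 v).symm]
        rw [mul_inv_cancel_right]
        exact (hcl (w : M) a0 _))
    -- the kernel centralises the whole of `A`
    have hker : f.ker ≤ A.subgroupOf W := by
      intro w hw
      have hwa : (w : M) * a0 = a0 * w :=
        commutatorElement_eq_one_iff_mul_comm.1 (congrArg Subtype.val hw : _)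
      refine hmax _ w.2 ?_
      have hle : Subgroup.zpowers ⁅w0, a0⁆ ⊔ Subgroup.zpowers a0 ≤ A :=
        sup_le (Subgroup.zpowers_le.2 hcA) (Subgroup.zpowers_le.2 ha0)
      have hC : Subgroup.zpowers ⁅w0, a0⁆ ⊔ Subgroup.zpowers a0 ≤ Subgroup.centralizer ({(w : M)} : Set M) :=
        sup_le (Subgroup.zpowers_le.2 (Subgroup.mem_centralizer_singleton_iff.2 (hcl w0 a0 w)))
          (Subgroup.zpowers_le.2 (Subgroup.mem_centralizer_singleton_iff.2 hwa.symm))
      have h3 : ∀ x : M, x ∈ W → x ≠ 1 → Nat.card ↥(Subgroup.zpowers x) = 3 := fun x hx hx1 => by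
        rw [Nat.card_zpowers]; exact orderOf_eq_prime hx hx1
      have ha1 : a0 ≠ 1 := fun e => hne (by rw [e, mul_one, one_mul])
      have hAeq : Subgroup.zpowers ⁅w0, a0⁆ ⊔ Subgroup.zpowers a0 = A := by
        refine Subgroup.eq_of_le_of_card_ge hle ?_
        have hlt : Subgroup.zpowers ⁅w0, a0⁆ < Subgroup.zpowers ⁅w0, a0⁆ ⊔ Subgroup.zpowers a0 := by
          refine lt_of_le_of_ne le_sup_left fun e => ?_
          have : a0 ∈ Subgroup.zpowers ⁅w0, a0⁆ := e ▸ le_sup_right (a := Subgroup.zpowers ⁅w0, a0⁆)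
            (Subgroup.mem_zpowers a0)
          obtain ⟨i, hi⟩ := Subgroup.mem_zpowers_iff.1 this
          refine hne ?_
          rw [← hi]
          exact ((Commute.zpow_left (hcl w0 a0 w0) i).eq).symm
        obtain ⟨j, hj⟩ := IsPGroup.iff_card.1 (hM.to_subgroup (Subgroup.zpowers ⁅w0, a0⁆ ⊔ Subgroup.zpowers a0))
        have h1 : 3 < 3 ^ j := by
          rw [← hj, ← h3 _ hcW hnc]
          exact lt_of_le_of_ne (Nat.le_of_dvd Nat.card_pos (Subgroup.card_dvd_of_le hlt.le))
            fun e => hlt.ne (Subgroup.eq_of_le_of_card_ge hlt.le e.ge)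
        rw [hj]
        refine hA9.trans ?_
        rcases j with _ | _ | j
        · simp at h1
        · simp at h1
        · calc 9 = 3 ^ 2 := by norm_num
            _ ≤ 3 ^ (j + 2) := Nat.pow_le_pow_right (by norm_num) (by omega)
      intro b hb
      exact (Subgroup.mem_centralizer_singleton_iff.1 (hC (hAeq.symm ▸ hb))).symm
    calc Nat.card ↥W = Nat.card (↥W ⧸ f.ker) * Nat.card ↥f.ker := Subgroup.card_eq_card_quotient_mul_card_subgroup _
      _ ≤ 9 * 9 := by
        refine Nat.mul_le_mul ?_ ?_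
        · rw [Nat.card_congr (QuotientGroup.quotientKerEquivRange f).toEquiv]
          exact (Nat.le_of_dvd Nat.card_pos (Subgroup.card_subgroup_dvd_card _)).trans hA9
        · refine le_trans (Nat.le_of_dvd Nat.card_pos (Subgroup.card_dvd_of_le hker)) ?_
          rw [Nat.card_congr (Subgroup.subgroupOfEquivOfLe hA.1.1).toEquiv]
          exact hA9
      _ ≤ 243 := by norm_num
  have hWφ : W.map φ.toMonoidHom = W := by
    refine Subgroup.eq_of_le_of_card_ge ?_ ?_
    · rintro _ ⟨x, hx, rfl⟩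
      show (φ x) ^ 3 = 1
      rw [← map_pow, show x ^ 3 = 1 from hx, map_one]
    · have hinj : Function.Injective φ.toMonoidHom := φ.injective
      exact (Subgroup.card_map_of_injective hinj).ge
  let ψ : MulAut ↥W := (φ.subgroupMap W).trans (MulEquiv.subgroupCongr hWφ)
  have hψ : ∀ (n : ℕ) (x : ↥W), (((ψ ^ n) x : ↥W) : M) = (φ ^ n) (x : M) := by
    intro n
    induction n with
    | zero => intro x; rfl
    | succ n ih =>
      intro x
      rw [pow_succ, pow_succ, MulAut.mul_apply, MulAut.mul_apply, ih]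
      rfl
  have hfix : ∀ x ∈ W, φ x = x := fun x hx => by
    have h := aut_trivial (hM.to_subgroup W) hW ψ (a := a)
      (MulEquiv.ext fun y => Subtype.ext (by rw [hψ, ha]; rfl)) ⟨x, hx⟩
    exact congrArg Subtype.val h
  -- climb the exponent
  suffices h : ∀ i : ℕ, ∀ x : M, x ^ 3 ^ i = 1 → φ x = x by
    obtain ⟨i, hi⟩ := hM m
    exact h i m hi
  intro i
  induction i with
  | zero => intro x hx; rw [pow_zero, pow_one] at hx; rw [hx, map_one]
  | succ i ih =>
    intro x hx
    have h3 : φ (x ^ 3) = x ^ 3 := ih _ (by rw [← pow_mul, ← pow_succ']; exact hx)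
    obtain ⟨d, hd⟩ : ∃ d, d = x⁻¹ * φ x := ⟨_, rfl⟩
    have hxd : φ x = x * d := by rw [hd, mul_inv_cancel_left]
    have hcd : ⁅d, x⁆ ^ 3 = 1 := by
      rw [show ⁅d, x⁆ ^ 3 = (⁅x, d⁆ ^ 3)⁻¹ by
        rw [← commutatorElement_inv, inv_pow], ← comm_pow (hcl x d), inv_eq_one]
      -- `x ^ 3` is fixed, hence commutes with `φ x = x * d`
      refine commutatorElement_eq_one_iff_mul_comm.2 ?_
      have e : x ^ 3 * (x * d) = x * d * x ^ 3 := by
        rw [← hxd]
        calc x ^ 3 * φ x = φ (x ^ 3) * φ x := by rw [h3]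
          _ = φ (x ^ 3 * x) := (map_mul _ _ _).symm
          _ = φ (x * x ^ 3) := by rw [← pow_succ, ← pow_succ']
          _ = φ x * φ (x ^ 3) := map_mul _ _ _
          _ = φ x * x ^ 3 := by rw [h3]
      have e2 : x * (x ^ 3 * d) = x * (d * x ^ 3) := by
        rw [← mul_assoc, ← mul_assoc x d, ← e, ← mul_assoc, ← pow_succ', ← pow_succ]
      exact mul_left_cancel e2
    have hd3 : d ^ 3 = 1 := by
      have e : (x * d) ^ 3 = x ^ 3 := by rw [← hxd, ← map_pow, h3]
      rw [mul_cube (hcl d x), hcd, one_mul] at e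
      simpa using e
    have hfd : φ d = d := hfix d hd3
    have hn : ∀ n : ℕ, (φ ^ n) x = x * d ^ n := by
      intro n
      induction n with
      | zero => simp
      | succ n ihn => rw [pow_succ', MulAut.mul_apply, ihn, map_mul, map_pow, hfd, hxd, mul_assoc, ← pow_succ']
    have h1 : d ^ 7 ^ a = 1 := by
      have h := hn (7 ^ a)
      rw [ha, MulAut.one_apply] at h
      exact left_eq_mul.1 h
    have hd1 : d = 1 := by
      have hcop : Nat.Coprime (7 ^ a) 3 := Nat.Coprime.pow_left a (by norm_num)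
      exact orderOf_eq_one_iff.1 (Nat.eq_one_of_dvd_coprimes hcop (orderOf_dvd_of_pow_eq_one h1)
        (orderOf_dvd_of_pow_eq_one hd3))
    rw [hxd, hd1, mul_one]

/-- A lift normalising a maximal three-subgroup of a preimage. -/
theorem exists_normalizing_lift {H A : Type*} [Group H] [Finite H] [Group A] (π : H →* A)
    (hπ : Function.Surjective π) (X : Subgroup A) (P : Subgroup H) (hP : IsPGroup 3 ↥P) (hPX : P.map π = X)
    (hmax : ∀ P' : Subgroup H, IsPGroup 3 ↥P' → P ≤ P' → P'.map π ≤ X → P' = P) (t : A)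
    (ht : X.map (MulAut.conj t).toMonoidHom = X) :
    ∃ g : H, (∃ x ∈ X, π g = x * t) ∧ ∀ p ∈ P, g * p * g⁻¹ ∈ P := by
  haveI : Fact (Nat.Prime 3) := ⟨by norm_num⟩
  obtain ⟨t0, ht0⟩ := hπ t
  let C : Subgroup H := X.comap π
  have hPC : P ≤ C := fun p hp => by
    show π p ∈ X
    rw [← hPX]; exact ⟨p, hp, rfl⟩
  have hC : ∀ x ∈ C, t0 * x * t0⁻¹ ∈ C := fun x hx => by
    show π (t0 * x * t0⁻¹) ∈ X
    rw [map_mul, map_mul, map_inv, ht0]
    exact ht.le ⟨π x, hx, rfl⟩
  -- `P` and its conjugate are Sylow subgroups of the preimage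
  let SP : Sylow 3 ↥C :=
    { toSubgroup := P.subgroupOf C
      isPGroup' := hP.of_equiv (Subgroup.subgroupOfEquivOfLe hPC).symm
      is_maximal' := fun {Q} hQ hle => by
        have h1 : Q.map C.subtype = P := hmax _ (hQ.map _) (fun p hp => ⟨⟨p, hPC hp⟩, hle hp, rfl⟩)
          (by rintro _ ⟨_, ⟨q, -, rfl⟩, rfl⟩; exact q.2)
        exact (Subgroup.comap_map_eq_self_of_injective C.subtype_injective Q).symm.trans (congrArg (fun S : Subgroup H => S.subgroupOf C) h1) }
  let R : Subgroup ↥C := (P.map (MulAut.conj t0).toMonoidHom).subgroupOf C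
  have hR : IsPGroup 3 ↥R :=
    (hP.map (MulAut.conj t0).toMonoidHom).of_equiv (Subgroup.subgroupOfEquivOfLe
      (by rintro _ ⟨p, hp, rfl⟩; exact hC p (hPC hp))).symm
  obtain ⟨S, hS⟩ := hR.exists_le_sylow
  obtain ⟨x, hx⟩ := MulAction.exists_smul_eq ↥C S SP
  refine ⟨(x : H) * t0, ⟨π x, x.2, by rw [map_mul, ht0]⟩, fun p hp => ?_⟩
  have h1 : (⟨t0 * p * t0⁻¹, hC p (hPC hp)⟩ : ↥C) ∈ R := ⟨p, hp, rfl⟩
  have h2 : x * ⟨t0 * p * t0⁻¹, hC p (hPC hp)⟩ * x⁻¹ ∈ (SP : Subgroup ↥C) := by
    rw [← hx]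
    exact Subgroup.mem_map.2 ⟨_, hS h1, rfl⟩
  have h3 : (x : H) * (t0 * p * t0⁻¹) * (x : H)⁻¹ ∈ P := h2
  rw [show (x : H) * t0 * p * ((x : H) * t0)⁻¹ = (x : H) * (t0 * p * t0⁻¹) * (x : H)⁻¹ by group]
  exact h3

end Cfsg.Agent.H75.GTwo.Three
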