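import Cfsg.Agent.H75.GTwo.Nine
import Cfsg.Agent.H75.GTwo.Three

/-!
No alternating group of degree eight is a section of the octonion automorphism group in characteristic prime to six.
-/

set_option autoImplicit false

namespace Cfsg.Agent.H75.GTwo.Eight

open Equiv
open scoped commutatorElement

/-- The alternating group of degree eight. -/
abbrev A8 : Type := ↥(alternatingGroup (Fin 8))

def x1 : A8 := ⟨swap 0 1 * swap 1 2,
  Equiv.Perm.mem_alternatingGroup.2 (by decide +kernel)⟩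
def x2 : A8 := ⟨swap 3 4 * swap 4 5,
  Equiv.Perm.mem_alternatingGroup.2 (by decide +kernel)⟩
def t : A8 := ⟨swap 0 3 * (swap 1 4 * swap 4 2 * swap 2 5),
  Equiv.Perm.mem_alternatingGroup.2 (by decide +kernel)⟩
def b1 : A8 := ⟨swap 3 4 * swap 4 6,
  Equiv.Perm.mem_alternatingGroup.2 (by decide +kernel)⟩
def b2 : A8 := ⟨swap 3 5 * swap 5 7,
  Equiv.Perm.mem_alternatingGroup.2 (by decide +kernel)⟩
def c7 : A8 := ⟨swap 0 1 * swap 1 2 * swap 2 3 * swap 3 4 * swap 4 5 * swap 5 6,
  Equiv.Perm.mem_alternatingGroup.2 (by decide +kernel)⟩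

theorem x1_cube : x1 ^ 3 = 1 := by decide +kernel
theorem x2_cube : x2 ^ 3 = 1 := by decide +kernel
theorem x12 : x1 * x2 = x2 * x1 := by decide +kernel
theorem t_x1 : t * x1 * t⁻¹ = x2 := by decide +kernel
theorem t_x2 : t * x2 * t⁻¹ = x1⁻¹ := by decide +kernel
theorem b1_x1 : b1 * x1 = x1 * b1 := by decide +kernel
theorem b2_x1 : b2 * x1 = x1 * b2 := by decide +kernel
theorem b_comm : b1 * b2 * b1⁻¹ * b2⁻¹ = x2 := by decide +kernel
theorem c7_pow : c7 ^ 7 = 1 := by decide +kernel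
theorem c7_ne : c7 ≠ 1 := by decide +kernel
theorem not_comm : c7 * x1 ≠ x1 * c7 := by decide +kernel
theorem nine_inj : ∀ a b c d : Fin 3, x1 ^ (a : ℕ) * x2 ^ (b : ℕ) = x1 ^ (c : ℕ) * x2 ^ (d : ℕ) →
    (a, b) = (c, d) := by decide +kernel

/-- The group generated by the two three-cycles. -/
def E : Subgroup A8 := Subgroup.closure {x1, x2}

theorem x1_mem : x1 ∈ E := Subgroup.subset_closure (by simp)
theorem x2_mem : x2 ∈ E := Subgroup.subset_closure (by simp)

theorem E_comm {a b : A8} (ha : a ∈ E) (hb : b ∈ E) : a * b = b * a := by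
  have h1 : ∀ p ∈ ({x1, x2} : Set A8), E ≤ Subgroup.centralizer ({p} : Set A8) := by
    intro p hp
    rw [E, Subgroup.closure_le]
    intro q hq
    apply Subgroup.mem_centralizer_singleton_iff.2
    rcases hp with rfl | rfl <;> rcases hq with rfl | rfl <;> first | rfl | exact x12 | exact x12.symm
  have h2 : E ≤ Subgroup.centralizer ({b} : Set A8) := by
    rw [E, Subgroup.closure_le]
    intro p hp
    exact Subgroup.mem_centralizer_singleton_iff.2 (Subgroup.mem_centralizer_singleton_iff.1 (h1 p hp hb)).symm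
  exact Subgroup.mem_centralizer_singleton_iff.1 (h2 ha)

theorem E_cube {a : A8} (ha : a ∈ E) : a ^ 3 = 1 := by
  induction ha using Subgroup.closure_induction with
  | mem p hp => rcases hp with rfl | rfl <;> [exact x1_cube; exact x2_cube]
  | one => exact one_pow _
  | mul p q hp hq ihp ihq => rw [Commute.mul_pow (E_comm hp hq), ihp, ihq, one_mul]
  | inv p _ ih => rw [inv_pow, ih, inv_one]

theorem E_inverted {a : A8} (ha : a ∈ E) : t * (t * a * t⁻¹) * t⁻¹ = a⁻¹ := by
  induction ha using Subgroup.closure_induction with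
  | mem p hp =>
    rcases hp with rfl | rfl
    · rw [t_x1, t_x2]
    · rw [t_x2, show t * x1⁻¹ * t⁻¹ = (t * x1 * t⁻¹)⁻¹ by group, t_x1]
  | one => simp
  | mul p q hp hq ihp ihq =>
    rw [show t * (t * (p * q) * t⁻¹) * t⁻¹ = (t * (t * p * t⁻¹) * t⁻¹) * (t * (t * q * t⁻¹) * t⁻¹) by group,
      ihp, ihq, ← mul_inv_rev, E_comm hq hp]
  | inv p _ ih =>
    rw [show t * (t * p⁻¹ * t⁻¹) * t⁻¹ = (t * (t * p * t⁻¹) * t⁻¹)⁻¹ by simp [mul_assoc], ih]

theorem E_normalised : E.map (MulAut.conj t).toMonoidHom = E := by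
  have hinj : Function.Injective (MulAut.conj t).toMonoidHom := (MulAut.conj t).injective
  refine Subgroup.eq_of_le_of_card_ge ?_ (Subgroup.card_map_of_injective hinj).ge
  rw [Subgroup.map_le_iff_le_comap, E, Subgroup.closure_le]
  intro p hp
  show t * p * t⁻¹ ∈ E
  rcases hp with rfl | rfl
  · rw [t_x1]; exact x2_mem
  · rw [t_x2]; exact E.inv_mem x1_mem

theorem E_card : 9 ≤ Nat.card ↥E := by
  let f : Fin 3 × Fin 3 → ↥E := fun p =>
    ⟨x1 ^ (p.1 : ℕ) * x2 ^ (p.2 : ℕ), E.mul_mem (E.pow_mem x1_mem _) (E.pow_mem x2_mem _)⟩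
  have hf : Function.Injective f := fun p q h => nine_inj _ _ _ _ (congrArg Subtype.val h)
  simpa using Nat.card_le_card_of_injective f hf

/-- A power of a lift has prime power order and the same image. -/
theorem exists_power {H A : Type*} [Group H] [Finite H] [Group A] (π : H →* A) {p : ℕ} (hp : p.Prime)
    (u : H) (hu : π u ^ p = 1) :
    ∃ n j : ℕ, (u ^ n) ^ p ^ j = 1 ∧ π (u ^ n) = π u := by
  have hcop : (ordCompl[p] (orderOf u)).Coprime p :=
    (Nat.coprime_ordCompl hp (orderOf_pos u).ne').symm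
  obtain ⟨i, -, hi⟩ := Nat.exists_mul_mod_eq_one_of_coprime hcop hp.one_lt
  refine ⟨ordCompl[p] (orderOf u) * i, (orderOf u).factorization p, ?_, ?_⟩
  · rw [← pow_mul, mul_right_comm, mul_comm (ordCompl[p] (orderOf u)), Nat.ordProj_mul_ordCompl_eq_self,
      pow_mul, pow_orderOf_eq_one, one_pow]
  · rw [map_pow, pow_eq_pow_mod _ hu, hi, pow_one]

theorem rank_two {k : Type*} [Field k] [IsAlgClosed k] (h3 : (3 : k) ≠ 0) {H : Type*} [Group H]
    (ρ : H →* ↥(Cfsg.Lie.G2 k)) (hρ : Function.Injective ρ) : Three.RankTwo H := by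
  intro S hfin hc he
  by_contra hcard
  haveI : Fact (Nat.Prime 3) := ⟨by norm_num⟩
  have hone : ∀ x ∈ S, x ≠ 1 → Nat.card ↥(Subgroup.zpowers x) = 3 := fun x hx hx1 => by
    rw [Nat.card_zpowers]; exact orderOf_eq_prime (he x hx) hx1
  obtain ⟨a, haS, ha⟩ : ∃ a ∈ S, a ≠ 1 := by
    by_contra hall
    push Not at hall
    have : S = ⊥ := (Subgroup.eq_bot_iff_forall S).2 hall
    rw [this, Subgroup.card_bot] at hcard
    omega
  haveI : Finite ↥(Subgroup.zpowers a) := Finite.of_injective _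
    (Subgroup.inclusion_injective (Subgroup.zpowers_le.2 haS))
  obtain ⟨b, hbS, hb⟩ : ∃ b ∈ S, b ∉ Subgroup.zpowers a := by
    by_contra hall
    push Not at hall
    have : Nat.card ↥S ≤ 3 := by
      rw [← hone a haS ha]
      exact Nat.card_le_card_of_injective (Subgroup.inclusion hall) (Subgroup.inclusion_injective _)
    omega
  let f2 : ↥(Subgroup.zpowers a) × ↥(Subgroup.zpowers b) → ↥S := fun p =>
    ⟨(p.1 : H) * p.2, S.mul_mem (Subgroup.zpowers_le.2 haS p.1.2) (Subgroup.zpowers_le.2 hbS p.2.2)⟩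
  obtain ⟨c, hc2⟩ : ∃ c : ↥S, ∀ p, f2 p ≠ c := by
    by_contra hall
    push Not at hall
    haveI : Finite ↥(Subgroup.zpowers b) := Finite.of_injective _
      (Subgroup.inclusion_injective (Subgroup.zpowers_le.2 hbS))
    have := Nat.card_le_card_of_surjective f2 hall
    rw [Nat.card_prod, hone a haS ha,
      hone b hbS fun e => hb (e ▸ Subgroup.one_mem _)] at this
    omega
  -- the three elements give an elementary abelian group of order twenty-seven
  let g : ℕ → ℕ → ℕ → H := fun i j l => a ^ i * b ^ j * (c : H) ^ l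
  have hmul : ∀ i j l i' j' l' : ℕ, g i j l * g i' j' l' = g (i + i') (j + j') (l + l') := by
    intro i j l i' j' l'
    have cba : Commute (b ^ j) (a ^ i') := (show Commute b a from hc b hbS a haS).pow_pow _ _
    have cca : Commute ((c : H) ^ l) (a ^ i') := (show Commute (c : H) a from hc _ c.2 a haS).pow_pow _ _
    have ccb : Commute ((c : H) ^ l) (b ^ j') := (show Commute (c : H) b from hc _ c.2 b hbS).pow_pow _ _
    simp only [g, pow_add]
    rw [show a ^ i * b ^ j * (c : H) ^ l * (a ^ i' * b ^ j' * (c : H) ^ l') =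
      a ^ i * b ^ j * ((c : H) ^ l * a ^ i') * b ^ j' * (c : H) ^ l' by simp [mul_assoc], cca.eq,
      show a ^ i * b ^ j * (a ^ i' * (c : H) ^ l) * b ^ j' * (c : H) ^ l' =
      a ^ i * (b ^ j * a ^ i') * ((c : H) ^ l * b ^ j') * (c : H) ^ l' by simp [mul_assoc], cba.eq, ccb.eq]
    simp [mul_assoc]
  have hmod : ∀ i j l : ℕ, g i j l = g (i % 3) (j % 3) (l % 3) := fun i j l => by
    simp only [g]
    rw [pow_eq_pow_mod i (he a haS), pow_eq_pow_mod j (he b hbS), pow_eq_pow_mod l (he _ c.2)]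
  let f : Multiplicative (ZMod 3 × ZMod 3 × ZMod 3) →* ↥(Cfsg.Lie.G2 k) :=
    ρ.comp (MonoidHom.mk' (fun v => g (Multiplicative.toAdd v).1.val (Multiplicative.toAdd v).2.1.val
      (Multiplicative.toAdd v).2.2.val) fun v w => by
        rw [hmul, hmod (_ + _)]
        simp only [toAdd_mul, Prod.fst_add, Prod.snd_add, ZMod.val_add])
  have hf : Function.Injective f := by
    rw [← MonoidHom.ker_eq_bot_iff, Subgroup.eq_bot_iff_forall]
    intro v hv
    have h1 : g (Multiplicative.toAdd v).1.val (Multiplicative.toAdd v).2.1.val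
      (Multiplicative.toAdd v).2.2.val = 1 := hρ (hv.trans ρ.map_one.symm)
    obtain ⟨⟨i, j, l⟩, rfl⟩ := Multiplicative.ofAdd.surjective v
    simp only [toAdd_ofAdd] at h1
    have hi := ZMod.val_lt i
    have hj := ZMod.val_lt j
    have hl := ZMod.val_lt l
    have hl0 : l.val = 0 := by
      by_contra h
      have hmem : ∀ n : ℕ, (c : H) ^ n = (c : H) → l.val * n % 3 = 1 → False := by
        intro n _ hn
        have e : a ^ i.val * b ^ j.val = ((c : H) ^ l.val)⁻¹ := eq_inv_of_mul_eq_one_left h1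
        refine hc2 (⟨(a ^ i.val) ^ (2 * n), Subgroup.pow_mem _ (Subgroup.npow_mem_zpowers a _) _⟩,
          ⟨(b ^ j.val) ^ (2 * n), Subgroup.pow_mem _ (Subgroup.npow_mem_zpowers b _) _⟩) (Subtype.ext ?_)
        show (a ^ i.val) ^ (2 * n) * (b ^ j.val) ^ (2 * n) = c
        rw [← ((show Commute a b from hc a haS b hbS).pow_pow _ _).mul_pow, e, inv_pow, ← pow_mul,
          inv_eq_iff_mul_eq_one, ← pow_succ, pow_eq_pow_mod _ (he _ c.2),
          show (l.val * (2 * n) + 1) % 3 = 0 by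
            rw [show l.val * (2 * n) = 2 * (l.val * n) by ring, Nat.add_mod, Nat.mul_mod, hn], pow_zero]
      rcases (show l.val = 1 ∨ l.val = 2 by omega) with e | e
      · exact hmem 1 (pow_one _) (by rw [e])
      · exact hmem 2 (by
          exfalso
          refine hc2 (⟨(a ^ i.val), Subgroup.npow_mem_zpowers a _⟩, ⟨b ^ j.val, Subgroup.npow_mem_zpowers b _⟩)
            (Subtype.ext ?_)
          show a ^ i.val * b ^ j.val = c
          have h2 : a ^ i.val * b ^ j.val * (c : H) ^ 2 = 1 := by rw [← e]; exact h1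
          calc a ^ i.val * b ^ j.val = a ^ i.val * b ^ j.val * (c : H) ^ 3 := by rw [he _ c.2, mul_one]
            _ = a ^ i.val * b ^ j.val * (c : H) ^ 2 * c := by simp [pow_succ, mul_assoc]
            _ = c := by rw [h2, one_mul]) (by rw [e])
    simp only [g, hl0, pow_zero, mul_one] at h1
    have hj0 : j.val = 0 := by
      by_contra h
      refine hb ?_
      have e : b ^ j.val ∈ Subgroup.zpowers a := by
        rw [eq_inv_of_mul_eq_one_right h1]; exact Subgroup.inv_mem _ (Subgroup.npow_mem_zpowers a _)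
      rcases (show j.val = 1 ∨ j.val = 2 by omega) with ej | ej
      · rwa [ej, pow_one] at e
      · rw [ej] at e
        have := Subgroup.mul_mem _ e e
        rwa [← pow_add, show 2 + 2 = 1 + 3 from rfl, pow_add, he b hbS, mul_one, pow_one] at this
    simp only [hj0, pow_zero, mul_one] at h1
    have hi0 : i.val = 0 := by
      by_contra h
      refine ha ?_
      rcases (show i.val = 1 ∨ i.val = 2 by omega) with ei | ei
      · rwa [ei, pow_one] at h1
      · calc a = a ^ 3 * (a ^ 2)⁻¹ := by group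
          _ = 1 := by rw [he a haS, ← ei, h1, inv_one, one_mul]
    rw [(ZMod.val_eq_zero i).1 hi0, (ZMod.val_eq_zero j).1 hj0, (ZMod.val_eq_zero l).1 hl0]
    rfl
  exact no_rank_three h3 f hf

/-- The case of a group all of whose proper subgroups map to proper subgroups. -/
theorem minimal_case {k : Type*} [Field k] [IsAlgClosed k] (h2 : (2 : k) ≠ 0) (h3 : (3 : k) ≠ 0)
    {H : Type*} [Group H] [Finite H] (ρ : H →* ↥(Cfsg.Lie.G2 k)) (hρ : Function.Injective ρ)
    (π : H →* A8) (hπ : Function.Surjective π)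
    (hmin : ∀ S : Subgroup H, S.map π = ⊤ → S = ⊤) : False := by
  classical
  haveI : Fact (Nat.Prime 3) := ⟨by norm_num⟩
  haveI : IsSimpleGroup A8 := alternatingGroup.isSimpleGroup (by simp)
  have hr := rank_two h3 ρ hρ
  have hmapnorm : ∀ N : Subgroup H, N.Normal → (∃ h ∈ N, π h ≠ 1) → N = ⊤ := by
    intro N hN ⟨h, hh, hne⟩
    haveI := hN
    refine hmin N ((Subgroup.Normal.eq_bot_or_eq_top (hN.map π hπ)).resolve_left fun e => hne ?_)
    exact Subgroup.mem_bot.1 (e ▸ Subgroup.mem_map_of_mem π hh)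
  -- an element of seven-power order
  obtain ⟨h7, hh7⟩ := hπ c7
  obtain ⟨n7, a7, ha7, hn7⟩ := exists_power π (by norm_num : Nat.Prime 7) h7 (by rw [hh7]; exact c7_pow)
  have hh : π (h7 ^ n7) ≠ 1 := by rw [hn7, hh7]; exact c7_ne
  -- normal three-subgroups are central
  have hcentral : ∀ c, ∀ M : Subgroup H, M.Normal → IsPGroup 3 ↥M → Nat.card ↥M = c → M ≤ Subgroup.center H := by
    intro c
    induction c using Nat.strong_induction_on with
    | _ c IH =>
    intro M hM hMp hcard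
    haveI := hM
    by_cases hbot : M = ⊥
    · rw [hbot]; exact bot_le
    haveI : Nontrivial ↥M := (Subgroup.nontrivial_iff_ne_bot M).2 hbot
    haveI : Group.IsNilpotent ↥M := hMp.isNilpotent
    have hlt : commutator ↥M < ⊤ := IsSolvable.commutator_lt_top_of_nontrivial ↥M
    have hD : ⁅M, M⁆ ≤ Subgroup.center H := by
      refine IH _ ?_ ⁅M, M⁆ inferInstance (hMp.to_le (Subgroup.commutator_le_self M)) rfl
      rw [← hcard, ← Subgroup.map_subtype_commutator,
        Subgroup.card_map_of_injective M.subtype_injective]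
      refine lt_of_le_of_ne (Nat.le_of_dvd Nat.card_pos (Subgroup.card_subgroup_dvd_card _)) fun e => ?_
      exact hlt.ne (Subgroup.eq_top_of_card_eq _ e)
    have hrM : Three.RankTwo ↥M := fun S _ hc he => by
      rw [← Subgroup.card_map_of_injective M.subtype_injective]
      refine hr _ inferInstance ?_ ?_
      · rintro _ ⟨p, hp, rfl⟩ _ ⟨q, hq, rfl⟩
        rw [← map_mul, hc p hp q hq, map_mul]
      · rintro _ ⟨p, hp, rfl⟩
        rw [← map_pow, he p hp, map_one]
    have hcl : ∀ x y g : ↥M, ⁅x, y⁆ * g = g * ⁅x, y⁆ := fun x y g => Subtype.ext (by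
      have h1 : ((⁅x, y⁆ : ↥M) : H) ∈ ⁅M, M⁆ := by
        rw [← Subgroup.map_subtype_commutator]
        exact ⟨_, Subgroup.commutator_mem_commutator (Subgroup.mem_top x) (Subgroup.mem_top y), rfl⟩
      exact (Subgroup.mem_center_iff.1 (hD h1) g).symm)
    have hfix : ∀ m : ↥M, MulAut.conjNormal (h7 ^ n7) m = m :=
      Three.class_two_trivial hMp hrM hcl _ (a := a7) (by rw [← map_pow, ha7, map_one])
    have htop : Subgroup.centralizer (M : Set H) = ⊤ := hmapnorm _ inferInstance ⟨h7 ^ n7, ?_, hh⟩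
    · intro m hm
      refine Subgroup.mem_center_iff.2 fun x => ?_
      exact ((Subgroup.mem_centralizer_iff.1 (htop ▸ Subgroup.mem_top x)) m hm).symm
    · refine Subgroup.mem_centralizer_iff.2 fun m hm => ?_
      have e := congrArg Subtype.val (hfix ⟨m, hm⟩)
      rw [MulAut.conjNormal_apply] at e
      exact (mul_inv_eq_iff_eq_mul.1 e).symm
  -- the Sylow subgroup of the kernel
  obtain ⟨S⟩ : Nonempty (Sylow 3 ↥π.ker) := inferInstance
  let Q : Subgroup H := (S : Subgroup ↥π.ker).map π.ker.subtype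
  have hQn : Q.Normal := by
    rw [← Subgroup.normalizer_eq_top_iff]
    refine hmin _ ?_
    have h := congrArg (Subgroup.map π) (Sylow.normalizer_sup_eq_top S)
    rw [Subgroup.map_sup, (Subgroup.map_eq_bot_iff _).2 le_rfl, sup_bot_eq,
      Subgroup.map_top_of_surjective π hπ] at h
    exact h
  have hQp : IsPGroup 3 ↥Q := S.isPGroup'.map _
  have hQc : Q ≤ Subgroup.center H := hcentral _ Q hQn hQp rfl
  have hQK : Q ≤ π.ker := Subgroup.map_subtype_le _
  have hQmax : ∀ P : Subgroup H, IsPGroup 3 ↥P → Q ≤ P → ∀ p ∈ P, π p = 1 → p ∈ Q := by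
    intro P hP hle p hp hp1
    have e : P.subgroupOf π.ker = (S : Subgroup ↥π.ker) :=
      S.is_maximal' (IsPGroup.comap_of_injective hP π.ker.subtype π.ker.subtype_injective)
        fun s hs => hle ⟨s, hs, rfl⟩
    exact ⟨⟨p, hp1⟩, e ▸ (show (⟨p, hp1⟩ : ↥π.ker) ∈ P.subgroupOf π.ker from hp), rfl⟩
  -- maximality of three-subgroups over `Q` in preimages
  have hmax : ∀ (P : Subgroup H) (X : Subgroup A8), Q ≤ P → P.map π = X →
      ∀ P' : Subgroup H, IsPGroup 3 ↥P' → P ≤ P' → P'.map π ≤ X → P' = P := by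
    intro P X hQP hPX P' hP' hle himg
    refine le_antisymm (fun p hp => ?_) hle
    obtain ⟨q, hq, hqp⟩ : π p ∈ P.map π := hPX.symm ▸ himg ⟨p, hp, rfl⟩
    have h1 : q⁻¹ * p ∈ Q := hQmax P' hP' (hQP.trans hle) _ (P'.mul_mem (P'.inv_mem (hle hq)) hp)
      (by rw [map_mul, map_inv, hqp, inv_mul_cancel])
    simpa using P.mul_mem hq (hQP h1)
  -- a lift of the first three-cycle and its normalised preimage
  obtain ⟨u0, hu0⟩ := hπ x1
  obtain ⟨n1, j1, hj1, hn1⟩ := exists_power π (by norm_num : Nat.Prime 3) u0 (by rw [hu0]; exact x1_cube)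
  obtain ⟨u1, hu1p, hu1⟩ : ∃ u1 : H, u1 ^ 3 ^ j1 = 1 ∧ π u1 = x1 := ⟨u0 ^ n1, hj1, hn1.trans hu0⟩
  have hP1 : IsPGroup 3 ↥(Subgroup.zpowers u1 ⊔ Q) := by
    haveI := hQn
    refine IsPGroup.to_sup_of_normal_right (IsPGroup.of_card (n := ((orderOf u1).factorization 3)) ?_) hQp
    obtain ⟨i, -, hi⟩ := (Nat.dvd_prime_pow (by norm_num)).1 (orderOf_dvd_of_pow_eq_one hu1p)
    rw [Nat.card_zpowers, hi, Nat.Prime.factorization_pow (by norm_num), Finsupp.single_eq_same]
  have hQ1 : Q.map π = ⊥ := (Subgroup.map_eq_bot_iff _).2 hQK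
  have hP1X : (Subgroup.zpowers u1 ⊔ Q).map π = Subgroup.zpowers x1 := by
    rw [Subgroup.map_sup, hQ1, sup_bot_eq, MonoidHom.map_zpowers, hu1]
  have hlift : ∀ b : A8, b * x1 = x1 * b → ∃ g z : H, (∃ i : ℤ, π g = x1 ^ i * b) ∧
      z ∈ Subgroup.center H ∧ g * u1 * g⁻¹ = u1 * z := by
    intro b hb
    have hXn : (Subgroup.zpowers x1).map (MulAut.conj b).toMonoidHom = Subgroup.zpowers x1 := by
      rw [MonoidHom.map_zpowers]
      congr 1
      show b * x1 * b⁻¹ = x1
      rw [hb, mul_inv_cancel_right]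
    obtain ⟨g, ⟨x, hx, hgx⟩, hg⟩ := Three.exists_normalizing_lift π hπ _ _ hP1 hP1X
      (hmax _ _ le_sup_right hP1X) b hXn
    obtain ⟨i, rfl⟩ := Subgroup.mem_zpowers_iff.1 hx
    refine ⟨g, u1⁻¹ * (g * u1 * g⁻¹), ⟨i, hgx⟩, hQc ?_, by group⟩
    have hu1m : u1 ∈ Subgroup.zpowers u1 ⊔ Q := le_sup_left (b := Q) (Subgroup.mem_zpowers u1)
    refine hQmax _ hP1 le_sup_right _ (Subgroup.mul_mem _ (Subgroup.inv_mem _ hu1m) (hg u1 hu1m)) ?_
    have hcomm : Commute (x1 ^ i * b) x1 := (Commute.zpow_left (Commute.refl x1) i).mul_left hb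
    simp only [map_mul, map_inv, hu1, hgx]
    rw [hcomm.eq, mul_inv_cancel_right, inv_mul_cancel]
  obtain ⟨g1, z1, ⟨i1, hg1⟩, hz1, hc1⟩ := hlift b1 b1_x1
  obtain ⟨g2, z2, ⟨i2, hg2⟩, hz2, hc2⟩ := hlift b2 b2_x1
  have hc0 : g1 * g2 * g1⁻¹ * g2⁻¹ * u1 * (g1 * g2 * g1⁻¹ * g2⁻¹)⁻¹ = u1 := by
    have inv_act : ∀ g z : H, z ∈ Subgroup.center H → g * u1 * g⁻¹ = u1 * z → g⁻¹ * u1 * g = u1 * z⁻¹ := by
      intro g z hz hg
      have e : u1 = g⁻¹ * u1 * g * z := by
        calc u1 = g⁻¹ * (g * u1 * g⁻¹) * g := by group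
          _ = g⁻¹ * u1 * (z * g) := by rw [hg]; group
          _ = g⁻¹ * u1 * g * z := by rw [← Subgroup.mem_center_iff.1 hz g, mul_assoc _ g z]
      exact eq_mul_inv_of_mul_eq e.symm
    have mv : ∀ (g z : H), z ∈ Subgroup.center H → g * (u1 * z) * g⁻¹ = g * u1 * g⁻¹ * z := by
      intro g z hz
      rw [← mul_assoc g, mul_assoc _ z, ← Subgroup.mem_center_iff.1 hz g⁻¹, ← mul_assoc]
    have mvi : ∀ (g z : H), z ∈ Subgroup.center H → g⁻¹ * (u1 * z) * g = g⁻¹ * u1 * g * z := by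
      intro g z hz
      simpa using mv g⁻¹ z hz
    rw [show g1 * g2 * g1⁻¹ * g2⁻¹ * u1 * (g1 * g2 * g1⁻¹ * g2⁻¹)⁻¹ =
      g1 * (g2 * (g1⁻¹ * (g2⁻¹ * u1 * g2) * g1) * g2⁻¹) * g1⁻¹ by group,
      inv_act g2 z2 hz2 hc2, mvi g1 _ (inv_mem hz2), inv_act g1 z1 hz1 hc1, mul_assoc u1,
      mv g2 _ (mul_mem (inv_mem hz1) (inv_mem hz2)), hc2, mul_assoc u1,
      mv g1 _ (mul_mem hz2 (mul_mem (inv_mem hz1) (inv_mem hz2))), hc1, mul_assoc u1,
      Subgroup.mem_center_iff.1 (mul_mem (inv_mem hz1) (inv_mem hz2)) z2]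
    group
  have hcπ : π (g1 * g2 * g1⁻¹ * g2⁻¹) = x2 := by
    have k1 : Commute x1 b1 := b1_x1.symm
    have k2 : Commute x1 b2 := b2_x1.symm
    have l2 : Commute (x1 ^ i1) (x1 ^ i2 * b2) :=
      ((Commute.refl x1).zpow_zpow i1 i2).mul_right (k2.zpow_left i1)
    have l1 : Commute b1 (x1 ^ i2) := (k1.zpow_left i2).symm
    simp only [map_mul, map_inv, hg1, hg2]
    rw [← b_comm, mul_assoc (x1 ^ i1) b1, ← mul_assoc b1, l1.eq, mul_assoc (x1 ^ i2) b1, ← mul_assoc (x1 ^ i1),
      ← zpow_add, add_comm, zpow_add]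
    simp only [mul_inv_rev]
    have k1' : ∀ i : ℤ, Commute b1 (x1 ^ i) := fun i => (k1.zpow_left i).symm
    have k2' : ∀ i : ℤ, Commute b2 (x1 ^ i) := fun i => (k2.zpow_left i).symm
    calc x1 ^ i2 * x1 ^ i1 * (b1 * b2) * (b1⁻¹ * (x1 ^ i1)⁻¹) * (b2⁻¹ * (x1 ^ i2)⁻¹)
        = x1 ^ i2 * x1 ^ i1 * (b1 * b2 * b1⁻¹ * ((x1 ^ i1)⁻¹ * b2⁻¹)) * (x1 ^ i2)⁻¹ := by group
      _ = x1 ^ i2 * x1 ^ i1 * (b1 * b2 * b1⁻¹ * (b2⁻¹ * (x1 ^ i1)⁻¹)) * (x1 ^ i2)⁻¹ := by
          rw [((k2' i1).inv_inv).eq.symm]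
      _ = x1 ^ i2 * x1 ^ i1 * (b1 * b2 * b1⁻¹ * b2⁻¹) * ((x1 ^ i1)⁻¹ * (x1 ^ i2)⁻¹) := by group
      _ = b1 * b2 * b1⁻¹ * b2⁻¹ := by
          rw [(((k1' i2).mul_left (k2' i2)).mul_left ((k1' i2).inv_left)).mul_left ((k2' i2).inv_left) |>.mul_right
            ((((k1' i1).mul_left (k2' i1)).mul_left ((k1' i1).inv_left)).mul_left ((k2' i1).inv_left)) |>.eq.symm]
          group
  obtain ⟨n2, j2, hj2, hn2⟩ := exists_power π (by norm_num : Nat.Prime 3) (g1 * g2 * g1⁻¹ * g2⁻¹)
    (by rw [hcπ]; exact x2_cube)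
  obtain ⟨w, hwp, hw, hwu⟩ : ∃ w : H, w ^ 3 ^ j2 = 1 ∧ π w = x2 ∧ w * u1 = u1 * w :=
    ⟨_, hj2, hn2.trans hcπ, (Commute.pow_left (show Commute (g1 * g2 * g1⁻¹ * g2⁻¹) u1 from
      mul_inv_eq_iff_eq_mul.1 hc0) n2).eq⟩
  -- the abelian three-group above `E`
  let A : Subgroup H := Subgroup.closure ({u1, w} ∪ (Q : Set H))
  have hgen : ∀ p ∈ ({u1, w} ∪ (Q : Set H)), ∀ q ∈ ({u1, w} ∪ (Q : Set H)), p * q = q * p := by
    rintro p ((rfl | rfl) | hp) q ((rfl | rfl) | hq) <;>
      first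
      | rfl
      | exact hwu
      | exact hwu.symm
      | exact Subgroup.mem_center_iff.1 (hQc hq) _
      | exact (Subgroup.mem_center_iff.1 (hQc hp) _).symm
  have hAc : ∀ a ∈ A, ∀ b ∈ A, a * b = b * a := by
    intro a ha b hb
    have h1 : ∀ p ∈ ({u1, w} ∪ (Q : Set H)), A ≤ Subgroup.centralizer ({p} : Set H) := by
      intro p hp
      rw [Subgroup.closure_le]
      exact fun q hq => Subgroup.mem_centralizer_singleton_iff.2 (hgen q hq p hp)
    have h2' : A ≤ Subgroup.centralizer ({b} : Set H) := by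
      rw [Subgroup.closure_le]
      exact fun p hp => Subgroup.mem_centralizer_singleton_iff.2
        (Subgroup.mem_centralizer_singleton_iff.1 (h1 p hp hb)).symm
    exact Subgroup.mem_centralizer_singleton_iff.1 (h2' ha)
  have hAp : IsPGroup 3 ↥A := by
    have key : ∀ a ∈ A, ∃ j : ℕ, a ^ 3 ^ j = 1 := by
      intro a ha
      induction ha using Subgroup.closure_induction with
      | mem p hp =>
        rcases hp with (rfl | rfl) | hp
        · exact ⟨j1, hu1p⟩
        · exact ⟨j2, hwp⟩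
        · obtain ⟨j, hj⟩ := hQp ⟨p, hp⟩
          exact ⟨j, congrArg Subtype.val hj⟩
      | one => exact ⟨0, one_pow _⟩
      | mul p q hp hq ihp ihq =>
        obtain ⟨i, hi⟩ := ihp
        obtain ⟨j, hj⟩ := ihq
        exact ⟨i + j, by
          rw [Commute.mul_pow (hAc p hp q hq), pow_add, pow_mul, hi, one_pow, one_mul, mul_comm, pow_mul, hj,
            one_pow]⟩
      | inv p _ ih =>
        obtain ⟨j, hj⟩ := ih
        exact ⟨j, by rw [inv_pow, hj, inv_one]⟩
    intro a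
    obtain ⟨j, hj⟩ := key a a.2
    exact ⟨j, Subtype.ext hj⟩
  have hQA : Q ≤ A := fun q hq => Subgroup.subset_closure (Or.inr hq)
  have hAX : A.map π = E := by
    rw [MonoidHom.map_closure, E]
    refine le_antisymm (Subgroup.closure_le _ |>.2 ?_) (Subgroup.closure_mono ?_)
    · rintro _ ⟨p, hp, rfl⟩
      rcases hp with (rfl | rfl) | hp
      · rw [hu1]; exact Subgroup.subset_closure (by simp)
      · rw [hw]; exact Subgroup.subset_closure (by simp)
      · rw [show π p = 1 from hQK hp]; exact Subgroup.one_mem _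
    · rintro _ (rfl | rfl)
      · exact ⟨u1, Or.inl (Or.inl rfl), hu1⟩
      · exact ⟨w, Or.inl (Or.inr rfl), hw⟩
  obtain ⟨g, ⟨x, hxE, hgx⟩, hgA⟩ := Three.exists_normalizing_lift π hπ E A hAp hAX (hmax A E hQA hAX) t E_normalised
  have hπE : ∀ a ∈ A, π a ∈ E := fun a ha => hAX ▸ Subgroup.mem_map_of_mem π ha
  have hgπ : ∀ a ∈ A, π (g * a * g⁻¹) = t * π a * t⁻¹ := fun a ha => by
    have hm : t * π a * t⁻¹ ∈ E := E_normalised.le ⟨π a, hπE a ha, rfl⟩
    rw [map_mul, map_mul, map_inv, hgx,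
      show x * t * π a * (x * t)⁻¹ = x * (t * π a * t⁻¹) * x⁻¹ by group, E_comm hxE hm, mul_inv_cancel_right]
  -- elements of order dividing three in `A`
  let W : Subgroup H :=
    { carrier := {a | a ∈ A ∧ a ^ 3 = 1}
      one_mem' := ⟨A.one_mem, one_pow _⟩
      mul_mem' := fun {a b} ha hb => ⟨A.mul_mem ha.1 hb.1, by
        rw [Commute.mul_pow (hAc a ha.1 b hb.1), ha.2, hb.2, one_mul]⟩
      inv_mem' := fun {a} ha => ⟨A.inv_mem ha.1, by rw [inv_pow, ha.2, inv_one]⟩ }
  have hW9 : Nat.card ↥W ≤ 9 := hr W inferInstance (fun a ha b hb => hAc a ha.1 b hb.1) fun a ha => ha.2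
  have hW9' : 9 ≤ Nat.card ↥W := by
    let cube : ↥A →* ↥A := MonoidHom.mk' (fun a => a ^ 3)
      fun a b => Commute.mul_pow (Subtype.ext (hAc a a.2 b b.2)) 3
    let πA : ↥A →* ↥E := (π.comp A.subtype).codRestrict E fun a => hπE a a.2
    have hs : Function.Surjective πA := fun e => by
      obtain ⟨a, ha, he⟩ := (hAX.symm ▸ e.2 : (e : A8) ∈ A.map π)
      exact ⟨⟨a, ha⟩, Subtype.ext he⟩
    have hle : cube.range ≤ πA.ker := by
      rintro _ ⟨a, rfl⟩
      refine Subtype.ext ?_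
      show π ((a : H) ^ 3) = 1
      rw [map_pow]; exact E_cube (hπE a a.2)
    have e1 := Subgroup.card_eq_card_quotient_mul_card_subgroup cube.ker
    have e2 := Subgroup.card_eq_card_quotient_mul_card_subgroup πA.ker
    rw [Nat.card_congr (QuotientGroup.quotientKerEquivRange cube).toEquiv] at e1
    rw [Nat.card_congr (QuotientGroup.quotientKerEquivOfSurjective πA hs).toEquiv] at e2
    have e3 : Nat.card ↥cube.ker ≤ Nat.card ↥W :=
      Nat.card_le_card_of_injective (fun a => (⟨(a.1 : H), a.1.2, congrArg Subtype.val a.2⟩ : ↥W))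
        fun a b e => Subtype.ext (Subtype.ext (congrArg Subtype.val e :))
    have e4 : Nat.card ↥cube.range ≤ Nat.card ↥πA.ker :=
      Nat.le_of_dvd Nat.card_pos (Subgroup.card_dvd_of_le hle)
    refine E_card.trans (le_trans ?_ e3)
    have hpos : 0 < Nat.card ↥πA.ker := Nat.card_pos
    nlinarith [e1.symm.trans e2, Nat.mul_le_mul_right (Nat.card ↥cube.ker) e4]
  have hgW : ∀ a ∈ W, g * a * g⁻¹ ∈ W := fun a ha => ⟨hgA a ha.1, by rw [conj_pow, ha.2, mul_one, mul_inv_cancel]⟩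
  have hpair : ∀ u v : H, u ∈ W → v ∈ W → u ≠ 1 → v ∉ Subgroup.zpowers u → NinePair (ρ u) (ρ v) := by
    intro u v hu hv hu1' hv1
    have hρ1 : ∀ a : H, ρ a = 1 → a = 1 := fun a e => hρ (e.trans ρ.map_one.symm)
    exact
      { pg := by rw [← map_pow, hu.2, map_one]
        ph := by rw [← map_pow, hv.2, map_one]
        comm := by rw [← map_mul, ← map_mul, hAc u hu.1 v hv.1]
        n1 := fun e => hu1' (hρ1 u e)
        n2 := fun e => hv1 (hρ1 v e ▸ Subgroup.one_mem _)
        n3 := fun e => hv1 (by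
          rw [eq_inv_of_mul_eq_one_right (hρ1 (u * v) (by rw [map_mul, e]))]
          exact Subgroup.inv_mem _ (Subgroup.mem_zpowers u))
        n4 := fun e => hv1 (by
          have h' := hρ1 (u * (v * v)) (by rw [map_mul, map_mul, e])
          have hvv : v * v = v⁻¹ := eq_inv_of_mul_eq_one_left (by rw [← hv.2]; simp [pow_succ, mul_assoc])
          rw [hvv] at h'
          rw [← mul_inv_eq_one.1 h']
          exact Subgroup.mem_zpowers u) }
  have hcardz : ∀ u : H, u ∈ W → u ≠ 1 → Nat.card ↥(Subgroup.zpowers u) = 3 := fun u hu hu1' => by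
    rw [Nat.card_zpowers]; exact orderOf_eq_prime hu.2 hu1'
  by_cases hinjW : ∀ a ∈ W, π a = 1 → a = 1
  · -- `W` maps isomorphically onto `E`
    let πW : ↥W →* ↥E := (π.comp W.subtype).codRestrict E fun a => hπE a a.2.1
    have hiW : Function.Injective πW := fun a b h => by
      have h' : π (a : H) = π (b : H) := congrArg Subtype.val h
      exact Subtype.ext (mul_inv_eq_one.1 (hinjW _ (W.mul_mem a.2 (W.inv_mem b.2))
        (by rw [map_mul, map_inv, h', mul_inv_cancel])))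
    have hEW : Nat.card ↥E ≤ Nat.card ↥W := by
      -- `E` is generated by two commuting elements of order three
      refine le_trans ?_ hW9'
      let f : Fin 3 × Fin 3 → ↥E := fun p =>
        ⟨x1 ^ (p.1 : ℕ) * x2 ^ (p.2 : ℕ), E.mul_mem (E.pow_mem x1_mem _) (E.pow_mem x2_mem _)⟩
      have hsub : ∀ e ∈ E, ∃ a b : ℕ, e = x1 ^ a * x2 ^ b := by
        intro e he
        induction he using Subgroup.closure_induction with
        | mem p hp => rcases hp with rfl | rfl <;> [exact ⟨1, 0, by simp⟩; exact ⟨0, 1, by simp⟩]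
        | one => exact ⟨0, 0, by simp⟩
        | mul p q _ _ ihp ihq =>
          obtain ⟨a, b, rfl⟩ := ihp
          obtain ⟨c, d, rfl⟩ := ihq
          exact ⟨a + c, b + d, by
            rw [pow_add, pow_add, mul_assoc, ← mul_assoc (x2 ^ b),
              ((show Commute x1 x2 from x12).symm.pow_pow b c).eq]
            simp [mul_assoc]⟩
        | inv p _ ih =>
          obtain ⟨a, b, rfl⟩ := ih
          exact ⟨2 * a, 2 * b, inv_eq_of_mul_eq_one_right (by
            rw [mul_assoc, ← mul_assoc (x2 ^ b), ((show Commute x1 x2 from x12).symm.pow_pow b (2 * a)).eq,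
              ← mul_assoc, ← mul_assoc, ← pow_add, mul_assoc, ← pow_add, show a + 2 * a = 3 * a by ring,
              show b + 2 * b = 3 * b by ring, pow_mul, pow_mul, x1_cube, x2_cube, one_pow, one_pow, one_mul])⟩
      refine (Nat.card_le_card_of_surjective f fun e => ?_).trans (by simp)
      obtain ⟨a, b, hab⟩ := hsub e e.2
      refine ⟨(⟨a % 3, Nat.mod_lt _ (by norm_num)⟩, ⟨b % 3, Nat.mod_lt _ (by norm_num)⟩), Subtype.ext ?_⟩
      show x1 ^ (a % 3) * x2 ^ (b % 3) = e
      rw [hab, ← pow_eq_pow_mod a x1_cube, ← pow_eq_pow_mod b x2_cube]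
    have hsW : Function.Surjective πW := by
      haveI := Fintype.ofFinite ↥W
      haveI := Fintype.ofFinite ↥E
      refine ((Fintype.bijective_iff_injective_and_card πW).2 ⟨hiW, ?_⟩).2
      rw [← Nat.card_eq_fintype_card, ← Nat.card_eq_fintype_card]
      exact le_antisymm (Nat.card_le_card_of_injective _ hiW) hEW
    obtain ⟨⟨u, hu⟩, hu'⟩ := hsW ⟨x1, x1_mem⟩
    obtain ⟨⟨v, hv⟩, hv'⟩ := hsW ⟨x2, x2_mem⟩
    replace hu' : π u = x1 := congrArg Subtype.val hu'
    replace hv' : π v = x2 := congrArg Subtype.val hv'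
    have P : NinePair (ρ u) (ρ v) := hpair u v hu hv
      (fun e => by rw [e, map_one] at hu'; exact absurd hu'.symm (by decide +kernel))
      (fun e => by
        obtain ⟨i, hi⟩ := Subgroup.mem_zpowers_iff.1 e
        have hi' : x1 ^ i = x2 := by rw [← hu', ← map_zpow, hi, hv']
        have h3' : x1 ^ i = x1 ^ (i % 3) := zpow_eq_zpow_emod' (n := 3) i x1_cube
        rw [h3'] at hi'
        have : i % 3 = 0 ∨ i % 3 = 1 ∨ i % 3 = 2 := by omega
        rcases this with r | r | r <;> rw [r] at hi' <;> exact absurd hi' (by decide +kernel))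
    have e1 : g * u * g⁻¹ = v := mul_inv_eq_one.1 (hinjW _ (W.mul_mem (hgW u hu) (W.inv_mem hv))
      (by rw [map_mul, map_inv, hgπ u hu.1, hu', hv', t_x1, mul_inv_cancel]))
    have e2 : g * v * g⁻¹ = u⁻¹ := mul_inv_eq_one.1 (hinjW _ (W.mul_mem (hgW v hv) (W.inv_mem (W.inv_mem hu)))
      (by rw [map_mul, map_inv, map_inv, hgπ v hv.1, hu', hv', t_x2, mul_inv_cancel]))
    have hu2 : u⁻¹ = u ^ 2 := inv_eq_of_mul_eq_one_right (by rw [← pow_succ']; exact hu.2)
    refine no_inverting h3 P (t := ρ g) ⟨0, 1, by rw [← map_mul, ← map_inv, ← map_mul, e1]; simp⟩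
      ⟨2, 0, by rw [← map_mul, ← map_inv, ← map_mul, e2, hu2]; simp⟩ ?_ ?_
    · rw [← map_mul, ← map_mul, ← map_inv, ← map_mul, ← map_inv,
        show g * g * u * (g * g)⁻¹ = g * (g * u * g⁻¹) * g⁻¹ by group, e1, e2]
    · rw [← map_mul, ← map_mul, ← map_inv, ← map_mul, ← map_inv,
        show g * g * v * (g * g)⁻¹ = g * (g * v * g⁻¹) * g⁻¹ by group, e2,
        show g * u⁻¹ * g⁻¹ = (g * u * g⁻¹)⁻¹ by group, e1]
  push Not at hinjW
  obtain ⟨z, hzW, hzπ, hz1'⟩ := hinjW
  by_cases hall : ∀ a ∈ W, π a = 1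
  · -- `W` is central, so the whole group is abelian
    obtain ⟨v, hv, hvz⟩ : ∃ v ∈ W, v ∉ Subgroup.zpowers z := by
      by_contra hh'
      push Not at hh'
      have := Nat.card_le_card_of_injective _ (Subgroup.inclusion_injective (show W ≤ Subgroup.zpowers z from hh'))
      rw [hcardz z hzW hz1'] at this
      omega
    have hcen : ∀ a ∈ W, a ∈ Subgroup.center H := fun a ha => hQc (hQmax A hAp hQA a ha.1 (hall a ha))
    have P := hpair z v hzW hv hz1' hvz
    have habel : ∀ a b : H, a * b = b * a := fun a b => hρ (by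
      rw [map_mul, map_mul]
      refine centralizer_comm h2 h3 P ?_ ?_ ?_ ?_ <;>
        first
        | (rw [← map_mul, ← map_mul, Subgroup.mem_center_iff.1 (hcen z hzW) _])
        | (rw [← map_mul, ← map_mul, Subgroup.mem_center_iff.1 (hcen v hv) _]))
    obtain ⟨p, hp⟩ := hπ c7
    obtain ⟨q, hq⟩ := hπ x1
    exact not_comm (by rw [← hp, ← hq, ← map_mul, habel, map_mul])
  push Not at hall
  obtain ⟨a, haW, haπ⟩ := hall
  have hWle : W ≤ Subgroup.zpowers z ⊔ Subgroup.zpowers a := by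
    have hle : Subgroup.zpowers z ⊔ Subgroup.zpowers a ≤ W :=
      sup_le (Subgroup.zpowers_le.2 hzW) (Subgroup.zpowers_le.2 haW)
    refine (Subgroup.eq_of_le_of_card_ge hle ?_).ge
    have hlt : Subgroup.zpowers z < Subgroup.zpowers z ⊔ Subgroup.zpowers a := by
      refine lt_of_le_of_ne le_sup_left fun e => haπ ?_
      obtain ⟨i, hi⟩ := Subgroup.mem_zpowers_iff.1
        (e ▸ le_sup_right (a := Subgroup.zpowers z) (Subgroup.mem_zpowers a) : a ∈ Subgroup.zpowers z)
      rw [← hi, map_zpow, hzπ, one_zpow]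
    have hp3 : IsPGroup 3 ↥(Subgroup.zpowers z ⊔ Subgroup.zpowers a) := hAp.to_le (hle.trans fun b hb => hb.1)
    obtain ⟨j, hj⟩ := IsPGroup.iff_card.1 hp3
    have h1 : 3 < 3 ^ j := by
      rw [← hj, ← hcardz z hzW hz1']
      exact lt_of_le_of_ne (Nat.le_of_dvd Nat.card_pos (Subgroup.card_dvd_of_le hlt.le))
        fun e => hlt.ne (Subgroup.eq_of_le_of_card_ge hlt.le e.ge)
    rw [hj]
    refine hW9.trans ?_
    rcases j with _ | _ | j
    · simp at h1
    · simp at h1
    · calc 9 = 3 ^ 2 := by norm_num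
        _ ≤ 3 ^ (j + 2) := Nat.pow_le_pow_right (by norm_num) (by omega)
  have himg : W.map π ≤ Subgroup.zpowers (π a) := by
    refine (Subgroup.map_mono hWle).trans ?_
    rw [Subgroup.map_sup, MonoidHom.map_zpowers, MonoidHom.map_zpowers, hzπ, Subgroup.zpowers_one_eq_bot,
      bot_sup_eq]
  obtain ⟨i, hi⟩ := Subgroup.mem_zpowers_iff.1 (himg ⟨g * a * g⁻¹, hgW a haW, rfl⟩)
  rw [hgπ a haW.1] at hi
  have hinv := E_inverted (hπE a haW.1)
  rw [← hi, ← conj_zpow, ← hi, ← zpow_mul, ← zpow_neg_one, zpow_eq_zpow_iff_modEq,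
    orderOf_eq_prime (E_cube (hπE a haW.1)) haπ] at hinv
  have hmod : i * i % 3 = 2 := by
    have := hinv
    unfold Int.ModEq at this
    omega
  rw [Int.mul_emod] at hmod
  have : i % 3 = 0 ∨ i % 3 = 1 ∨ i % 3 = 2 := by omega
  rcases this with r | r | r <;> simp [r] at hmod

universe v in
/-- No alternating group of degree eight is a section. -/
theorem no_section {k : Type*} [Field k] [IsAlgClosed k] (h2 : (2 : k) ≠ 0) (h3 : (3 : k) ≠ 0) :
    ∀ (n : ℕ) {H : Type v} [Group H] [Finite H] (ρ : H →* ↥(Cfsg.Lie.G2 k)), Function.Injective ρ →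
      ∀ π : H →* A8, Function.Surjective π → Nat.card H = n → False := by
  intro n
  induction n using Nat.strong_induction_on with
  | _ n IH =>
  intro H _ _ ρ hρ π hπ hcard
  refine minimal_case h2 h3 ρ hρ π hπ fun S hS => ?_
  by_contra hne
  have hlt : Nat.card ↥S < n := by
    rw [← hcard]
    exact lt_of_le_of_ne (Nat.le_of_dvd Nat.card_pos S.card_subgroup_dvd_card)
      fun e => hne (Subgroup.eq_top_of_card_eq _ e)
  refine IH _ hlt (ρ.comp S.subtype) (hρ.comp S.subtype_injective) (π.comp S.subtype) (fun a => ?_) rfl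
  obtain ⟨s, hs, hsa⟩ := (hS ▸ Subgroup.mem_top a : a ∈ S.map π)
  exact ⟨⟨s, hs⟩, hsa⟩

end Cfsg.Agent.H75.GTwo.Eight
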