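import Cfsg.Agent.H75.GTwo.Oct
import Cfsg.Agent.H75.GTwo.Eigen

/-!
Elements of order five and elementary abelian groups of order nine acting on the split octonions.
-/

set_option autoImplicit false

namespace Cfsg.Agent.H75.GTwo

open Module Oct Eigen
open Cfsg.Lie (zornMul)

variable {k : Type*} [Field k]

/-- An eigenspace of an octonion automorphism. -/
abbrev Esp (g : ↥(Cfsg.Lie.G2 k)) (μ : k) : Submodule k (Fin 8 → k) := (act g).eigenspace μ

theorem mem_esp {g : ↥(Cfsg.Lie.G2 k)} {μ : k} {v : Fin 8 → k} : v ∈ Esp g μ ↔ act g v = μ • v :=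
  Module.End.mem_eigenspace_iff

theorem act_pow_eq_one {g : ↥(Cfsg.Lie.G2 k)} {n : ℕ} (h : g ^ n = 1) : act g ^ n = 1 := by
  rw [← map_pow, h, map_one]

/-- Pairing with an eigenvector only sees the inverse eigenvalue. -/
theorem pol_proj {g : ↥(Cfsg.Lie.G2 k)} {n : ℕ} {μ ν : k} (hn : (n : k) ≠ 0) (hμν : μ * ν = 1)
    {x : Fin 8 → k} (hx : x ∈ Esp g μ) (y : Fin 8 → k) :
    pol x (proj (act g) n ν y) = pol x y := by
  have hterm : ∀ j ∈ Finset.range n, pol x ((ν⁻¹) ^ j • (act g ^ j) y) = pol x y := by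
    intro j _
    have h1 : pol ((act g ^ j) x) ((act g ^ j) y) = pol x y := by
      rw [← map_pow]; exact act_pol _ x y
    rw [pow_apply_of_eigen (mem_esp.1 hx), map_smul, LinearMap.smul_apply, smul_eq_mul] at h1
    rw [map_smul, smul_eq_mul, inv_eq_of_mul_eq_one_left hμν]
    exact h1
  rw [proj_apply, map_smul, map_sum, Finset.sum_congr rfl hterm, Finset.sum_const, Finset.card_range,
    nsmul_eq_mul, smul_eq_mul, ← mul_assoc, inv_mul_cancel₀ hn, one_mul]

/-- Comparison of two subspaces paired by the polar form. -/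
theorem finrank_le_of_pol {A B : Submodule k (Fin 8 → k)}
    (h : ∀ x ∈ A, (∀ z ∈ B, pol x z = 0) → x = 0) : finrank k ↥A ≤ finrank k ↥B := by
  let f : ↥A →ₗ[k] (↥B →ₗ[k] k) := (pol.compl₂ B.subtype).comp A.subtype
  have hf : Function.Injective f := by
    rw [← LinearMap.ker_eq_bot, LinearMap.ker_eq_bot']
    intro a ha
    exact Subtype.ext (h a a.2 fun z hz => LinearMap.congr_fun ha ⟨z, hz⟩)
  exact (LinearMap.finrank_le_finrank_of_injective hf).trans_eq Subspace.dual_finrank_eq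

theorem finrank_eight : finrank k ↥(⊤ : Submodule k (Fin 8 → k)) = 8 := by simp

theorem finrank_fixed_pos (g : ↥(Cfsg.Lie.G2 k)) : 0 < finrank k ↥(Esp g 1) := by
  have h : (one8 : Fin 8 → k) ∈ Esp g 1 := mem_esp.2 (by rw [act_one8, one_smul])
  have h0 : (one8 : Fin 8 → k) ≠ 0 := fun e => one_ne_zero (congrFun e 0)
  exact Module.finrank_pos_iff_exists_ne_zero.2 ⟨⟨_, h⟩, fun e => h0 (congrArg Subtype.val e)⟩

/-- A simple eigenvalue different from one leaves at most a plane fixed. -/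
theorem fixed_le_two_of_simple {g : ↥(Cfsg.Lie.G2 k)} {n : ℕ} (hn : (n : k) ≠ 0) (hg : g ^ n = 1) {μ : k}
    (h1 : finrank k ↥(Esp g μ) = 1) : finrank k ↥(Esp g 1) ≤ 2 := by
  by_contra hgt
  obtain ⟨⟨v, hv⟩, hv0, hspan⟩ := finrank_eq_one_iff'.1 h1
  have hv0' : v ≠ 0 := fun e => hv0 (Subtype.ext e)
  have hm : ∀ x ∈ Esp g 1, ∃ c : k, zornMul x v = c • v := by
    intro x hx
    have : zornMul x v ∈ Esp g μ := mem_esp.2 (by
      rw [act_mul, mem_esp.1 hx, one_smul, mem_esp.1 hv, ← mulL_apply, map_smul, mulL_apply])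
    obtain ⟨c, hc⟩ := hspan ⟨_, this⟩
    exact ⟨c, (congrArg Subtype.val hc).symm⟩
  -- the scalar by which a fixed element multiplies
  let lam : ↥(Esp g 1) →ₗ[k] k :=
    (LinearEquiv.ofBijective (LinearMap.toSpanSingleton k ↥(Esp g μ) ⟨v, hv⟩)
      ⟨fun a b hab => smul_left_injective k hv0 hab, fun w => hspan w⟩).symm.toLinearMap.comp
    (((mulL.flip v).comp (Esp g 1).subtype).codRestrict (Esp g μ) fun x => by
      obtain ⟨c, hc⟩ := hm x x.2
      show mulL (x : Fin 8 → k) v ∈ _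
      rw [mulL_apply, hc]
      exact Submodule.smul_mem _ _ hv)
  have hlam : ∀ x : ↥(Esp g 1), zornMul (x : Fin 8 → k) v = lam x • v := by
    intro x
    have e := (LinearEquiv.ofBijective (LinearMap.toSpanSingleton k ↥(Esp g μ) ⟨v, hv⟩)
      ⟨fun a b hab => smul_left_injective k hv0 hab, fun w => hspan w⟩).apply_symm_apply
      ((((mulL.flip v).comp (Esp g 1).subtype).codRestrict (Esp g μ) fun x => by
      obtain ⟨c, hc⟩ := hm x x.2
      show mulL (x : Fin 8 → k) v ∈ _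
      rw [mulL_apply, hc]
      exact Submodule.smul_mem _ _ hv) x)
    exact (congrArg Subtype.val e).symm
  let tau : ↥(Esp g 1) →ₗ[k] k := (tr.comp (Esp g 1).subtype) - lam
  have hq : ∀ x : ↥(Esp g 1), nm (x : Fin 8 → k) = lam x * tau x := by
    intro x
    have h := left_alt (x : Fin 8 → k) v
    rw [hlam, ← mulL_apply, map_smul, mulL_apply, hlam, smul_smul, sq_eq, ← mulL_apply, map_sub, map_smul,
      map_smul, LinearMap.sub_apply, LinearMap.smul_apply, LinearMap.smul_apply, mulL_apply, mulL_apply,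
      hlam, one_mul8, smul_smul, ← sub_smul] at h
    have := smul_left_injective k hv0' h
    show _ = lam x * (tr (x : Fin 8 → k) - lam x)
    linear_combination this
  obtain ⟨x, hx0, hxl, hxt⟩ : ∃ x : ↥(Esp g 1), x ≠ 0 ∧ lam x = 0 ∧ tau x = 0 := by
    have hk : 0 < finrank k ↥(LinearMap.ker (lam.prod tau)) := by
      have h2 := (lam.prod tau).finrank_range_add_finrank_ker
      have h3 : finrank k ↥(LinearMap.range (lam.prod tau)) ≤ 2 :=
        (Submodule.finrank_le _).trans_eq (by simp)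
      omega
    obtain ⟨⟨x, hx⟩, hne⟩ :=
      (Module.finrank_pos_iff_exists_ne_zero (R := k) (M := ↥(LinearMap.ker (lam.prod tau)))).1 hk
    have hx' : (lam x, tau x) = (0, 0) := hx
    simp only [Prod.mk.injEq] at hx'
    exact ⟨x, fun e => hne (Subtype.ext e), hx'.1, hx'.2⟩
  refine hx0 (Subtype.ext (eq_zero_of_pol _ fun y => ?_))
  have hn0 : n ≠ 0 := by rintro rfl; simp at hn
  let y' : ↥(Esp g 1) := ⟨proj (act g) n 1 y, mem_esp.2 (proj_mem (act_pow_eq_one hg) (one_pow n) hn0 y)⟩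
  rw [← pol_proj hn (one_mul 1) x.2]
  have e := nm_add (x : Fin 8 → k) (y' : Fin 8 → k)
  have e' := hq (x + y')
  rw [map_add, map_add, hxl, hxt, zero_add, zero_add] at e'
  have ex := hq x
  rw [hxl, zero_mul] at ex
  rw [Submodule.coe_add] at e'
  linear_combination -e + e' - ex - hq y' 

theorem esp_sq_of_pow_eq_one {g : ↥(Cfsg.Lie.G2 k)} {n m : ℕ} (hg : g ^ n = 1) (hm : 2 * m % n = 1)
    {μ : k} (hμ : μ ^ n = 1) : Esp (g * g) (μ * μ) = Esp g μ := by
  apply le_antisymm <;> intro v hv <;> rw [mem_esp] at hv ⊢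
  · have hg' : g = (g * g) ^ m := by
      rw [← pow_two, ← pow_mul, ← pow_one g, ← pow_mul, ← pow_mod_orderOf g (1 * (2 * m))]
      have hd : orderOf g ∣ n := orderOf_dvd_of_pow_eq_one hg
      rw [← pow_mod_orderOf g 1, ← Nat.mod_mod_of_dvd (1 * (2 * m)) hd, one_mul, hm]
    have hμ' : μ = (μ * μ) ^ m := by
      rw [← pow_two, ← pow_mul, ← Nat.div_add_mod (2 * m) n, pow_add, pow_mul, hμ, one_pow, one_mul, hm,
        pow_one]
    conv_lhs => rw [hg', map_pow]
    conv_rhs => rw [hμ']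
    exact pow_apply_of_eigen hv m
  · rw [map_mul, Module.End.mul_apply, hv, map_smul, hv, smul_smul]

theorem finrank_esp_conj (t g : ↥(Cfsg.Lie.G2 k)) (μ : k) :
    finrank k ↥(Esp (t * g * t⁻¹) μ) = finrank k ↥(Esp g μ) := by
  let e : (Fin 8 → k) ≃ₗ[k] (Fin 8 → k) :=
    LinearEquiv.ofLinearMap (act t) (act t⁻¹) (LinearMap.ext fun x => act_inv t x)
      (LinearMap.ext fun x => act_inv' t x)
  have : (Esp g μ).map (e : (Fin 8 → k) →ₗ[k] (Fin 8 → k)) = Esp (t * g * t⁻¹) μ := by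
    ext v
    constructor
    · rintro ⟨w, hw, rfl⟩
      rw [SetLike.mem_coe, mem_esp] at hw
      refine mem_esp.2 ?_
      show act (t * g * t⁻¹) (act t w) = μ • act t w
      rw [map_mul, Module.End.mul_apply, act_inv' t w, map_mul, Module.End.mul_apply, hw, map_smul]
    · intro hv
      refine ⟨act t⁻¹ v, mem_esp.2 ?_, act_inv t v⟩
      rw [mem_esp, map_mul, Module.End.mul_apply, map_mul, Module.End.mul_apply] at hv
      have h := congrArg (act t⁻¹) hv
      rwa [act_inv', map_smul] at h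
  rw [← this, LinearEquiv.finrank_map_eq]

/-- No element of order five is conjugate to its square. -/
theorem no_five [IsAlgClosed k] (h5 : (5 : k) ≠ 0) {g t : ↥(Cfsg.Lie.G2 k)} (hg : orderOf g = 5)
    (ht : t * g * t⁻¹ = g ^ 2) : False := by
  haveI : NeZero ((5 : ℕ) : k) := ⟨by exact_mod_cast h5⟩
  obtain ⟨ζ, hζ⟩ := HasEnoughRootsOfUnity.exists_primitiveRoot k 5
  have hg5 : g ^ 5 = 1 := hg ▸ pow_orderOf_eq_one g
  have hm : ∀ μ : k, μ ^ 5 = 1 → finrank k ↥(Esp g (μ * μ)) = finrank k ↥(Esp g μ) := by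
    intro μ hμ
    rw [← finrank_esp_conj t g (μ * μ), ht, pow_two, esp_sq_of_pow_eq_one (m := 3) hg5 (by norm_num) hμ]
  have hp : ∀ i : ℕ, (ζ ^ i) ^ 5 = 1 := fun i => by
    rw [← pow_mul, mul_comm, pow_mul, hζ.pow_eq_one, one_pow]
  have e12 := hm (ζ ^ 1) (hp 1)
  have e24 := hm (ζ ^ 2) (hp 2)
  have e43 := hm (ζ ^ 4) (hp 4)
  rw [← pow_add] at e12 e24 e43
  rw [show ζ ^ (4 + 4) = ζ ^ 3 by rw [show 4 + 4 = 5 + 3 from rfl, pow_add, hζ.pow_eq_one, one_mul]] at e43
  have hsum := finrank_eq_sum (T := act g) (W := ⊤) (by exact_mod_cast h5) hζ (act_pow_eq_one hg5)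
    (fun _ _ => trivial)
  have htop : ∀ i : Fin 5, finrank k ↥(⊤ ⊓ (act g).eigenspace (ζ ^ (i : ℕ))) =
      finrank k ↥(Esp g (ζ ^ (i : ℕ))) := fun i => by rw [top_inf_eq]
  rw [finrank_eight, Finset.sum_congr rfl (fun i _ => htop i),
    Fin.sum_univ_eq_sum_range (fun i => finrank k ↥(Esp g (ζ ^ i)))] at hsum
  simp only [Finset.sum_range_succ, Finset.sum_range_zero, pow_zero, zero_add] at hsum
  rw [show ζ ^ 0 = 1 from pow_zero ζ] at hsum
  change finrank k ↥(Esp g (ζ ^ 4)) = finrank k ↥(Esp g (ζ ^ 2)) at e24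
  change finrank k ↥(Esp g (ζ ^ 2)) = finrank k ↥(Esp g (ζ ^ 1)) at e12
  have hpos := finrank_fixed_pos g
  rcases Nat.lt_or_ge 1 (finrank k ↥(Esp g (ζ ^ 1))) with h | h
  · omega
  rcases Nat.eq_zero_or_pos (finrank k ↥(Esp g (ζ ^ 1))) with h0 | h0
  · have h8 : finrank k ↥(Esp g 1) = 8 := by omega
    have htop : Esp g 1 = ⊤ := Submodule.eq_top_of_finrank_eq (by simpa using h8)
    have : g = 1 := act_injective (by
      rw [map_one]
      exact LinearMap.ext fun v => by simpa using mem_esp.1 (htop ▸ Submodule.mem_top : v ∈ Esp g 1))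
    rw [this, orderOf_one] at hg
    omega
  · have := fixed_le_two_of_simple (n := 5) (by exact_mod_cast h5) hg5 (μ := ζ ^ 1) (by omega)
    omega

end Cfsg.Agent.H75.GTwo
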