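import Mathlib

/-!
Lifting an element of order five conjugate to its square through a surjective homomorphism of finite groups.
-/

set_option autoImplicit false

namespace Cfsg.Agent.H75.GTwo.Five

universe u v

/-- The elementary abelian case. -/
theorem of_elementary {Q C : Type*} [Group Q] [Finite Q] [Group C] (σ : MulAut Q) (S : Subgroup Q)
    (hcomm : ∀ a ∈ S, ∀ b ∈ S, a * b = b * a) (hexp : ∀ a ∈ S, a ^ 5 = 1) (hinv : ∀ a ∈ S, σ a ∈ S)
    (f : Q →* C) (hf : ∀ a ∈ S, f (σ a) = f a ^ 2) (hne : ∃ a ∈ S, f a ≠ 1) :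
    ∃ y : Q, orderOf y = 5 ∧ σ y = y ^ 2 := by
  haveI : Fact (Nat.Prime 5) := ⟨by norm_num⟩
  let δ : ↥S → ↥S := fun a => ⟨σ a * ((a : Q) ^ 2)⁻¹, S.mul_mem (hinv a a.2) (S.inv_mem (S.pow_mem a.2 2))⟩
  have hδ : ∀ a b, δ (a * b) = δ a * δ b := by
    intro a b
    apply Subtype.ext
    show σ ((a : Q) * b) * (((a : Q) * b) ^ 2)⁻¹ = σ a * ((a : Q) ^ 2)⁻¹ * (σ b * ((b : Q) ^ 2)⁻¹)
    have c1 : Commute (σ (b : Q)) ((a : Q) ^ 2)⁻¹ :=
      hcomm _ (hinv b b.2) _ (S.inv_mem (S.pow_mem a.2 2))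
    have c2 : Commute ((a : Q) ^ 2)⁻¹ ((b : Q) ^ 2)⁻¹ :=
      hcomm _ (S.inv_mem (S.pow_mem a.2 2)) _ (S.inv_mem (S.pow_mem b.2 2))
    rw [map_mul, Commute.mul_pow (show Commute (a : Q) b from hcomm _ a.2 _ b.2), mul_inv_rev, ← c2.eq,
      mul_assoc, ← mul_assoc (σ (b : Q)), c1.eq]
    group
  have hnsurj : ¬ Function.Surjective δ := by
    intro hs
    obtain ⟨a, ha, hfa⟩ := hne
    obtain ⟨b, hb⟩ := hs ⟨a, ha⟩
    refine hfa ?_
    rw [← show σ (b : Q) * ((b : Q) ^ 2)⁻¹ = a from congrArg Subtype.val hb, map_mul, map_inv, hf b b.2,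
      map_pow, mul_inv_cancel]
  have hninj : ¬ Function.Injective δ := fun h => hnsurj (Finite.injective_iff_surjective.1 h)
  obtain ⟨y, hy1, hy⟩ : ∃ y : ↥S, y ≠ 1 ∧ δ y = 1 := by
    by_contra hall
    push Not at hall
    refine hninj fun a b hab => ?_
    by_contra hne'
    refine hall (a * b⁻¹) (fun e => hne' (mul_inv_eq_one.1 e)) ?_
    have e := hδ (a * b⁻¹) b
    rw [inv_mul_cancel_right, hab] at e
    exact right_eq_mul.1 e
  refine ⟨y, orderOf_eq_prime (hexp y y.2) fun e => hy1 (Subtype.ext e), ?_⟩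
  exact mul_inv_eq_one.1 (congrArg Subtype.val hy)

theorem of_equivariant : ∀ (n : ℕ) (Q : Type u) [Group Q] [Finite Q], Nat.card Q = n → IsPGroup 5 Q →
    ∀ (σ : MulAut Q) (C : Type v) [Group C] (f : Q →* C), (∀ q, f (σ q) = f q ^ 2) → (∃ q, f q ≠ 1) →
      ∃ y : Q, orderOf y = 5 ∧ σ y = y ^ 2 := by
  intro n
  induction n using Nat.strong_induction_on with
  | _ n IH =>
  intro Q _ _ hcard hQ σ C _ f hf hne
  haveI : Fact (Nat.Prime 5) := ⟨by norm_num⟩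
  let Z : Subgroup Q :=
    { carrier := {z | z ∈ Subgroup.center Q ∧ z ^ 5 = 1}
      one_mem' := ⟨one_mem _, one_pow _⟩
      mul_mem' := fun {a b} ha hb => ⟨mul_mem ha.1 hb.1, by
        rw [Commute.mul_pow (show Commute a b from (Subgroup.mem_center_iff.1 ha.1 b).symm), ha.2, hb.2,
          one_mul]⟩
      inv_mem' := fun {a} ha => ⟨inv_mem ha.1, by rw [inv_pow, ha.2, inv_one]⟩ }
  haveI hZn : Z.Normal := ⟨fun z hz g => by
    rw [Subgroup.mem_center_iff.1 hz.1 g, mul_inv_cancel_right]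
    exact hz⟩
  have hσZ : ∀ z ∈ Z, σ z ∈ Z := fun z hz => ⟨Subgroup.mem_center_iff.2 fun g => by
    obtain ⟨g', rfl⟩ := σ.surjective g
    rw [← map_mul, ← map_mul, Subgroup.mem_center_iff.1 hz.1 g'], by rw [← map_pow, hz.2, map_one]⟩
  by_cases hfZ : ∃ z ∈ Z, f z ≠ 1
  · exact of_elementary σ Z (fun a ha b _ => (Subgroup.mem_center_iff.1 ha.1 b).symm) (fun a ha => ha.2) hσZ
      f (fun a _ => hf a) hfZ
  push Not at hfZ
  haveI : Nontrivial Q := by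
    obtain ⟨q, hq⟩ := hne
    exact ⟨⟨q, 1, fun e => hq (by rw [e, map_one])⟩⟩
  have hZne : Z ≠ ⊥ := by
    intro hbot
    haveI := hQ.center_nontrivial
    obtain ⟨z, hz⟩ := exists_prime_orderOf_dvd_card' (G := ↥(Subgroup.center Q)) 5 (by
      obtain ⟨m, hm⟩ := IsPGroup.iff_card.1 (hQ.to_subgroup (Subgroup.center Q))
      have h1 : 1 < Nat.card ↥(Subgroup.center Q) := Finite.one_lt_card
      rcases Nat.eq_zero_or_pos m with rfl | hm'
      · simp [hm] at h1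
      · rw [hm]; exact dvd_pow_self 5 (by omega))
    have hz' : (z : Q) ∈ Z := ⟨z.2, by
      rw [← hz, ← Subgroup.orderOf_coe]; exact pow_orderOf_eq_one _⟩
    rw [hbot, Subgroup.mem_bot] at hz'
    rw [← Subgroup.orderOf_coe, hz', orderOf_one] at hz
    omega
  have hlt : Nat.card (Q ⧸ Z) < n := by
    rw [← hcard, Subgroup.card_eq_card_quotient_mul_card_subgroup Z]
    have h1 : 1 < Nat.card ↥Z := Subgroup.one_lt_card_iff_ne_bot Z |>.2 hZne
    exact lt_mul_of_one_lt_right Nat.card_pos h1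
  have hσZ' : Z.map σ.toMonoidHom = Z := by
    apply le_antisymm
    · rintro _ ⟨z, hz, rfl⟩; exact hσZ z hz
    · intro z hz
      refine ⟨σ.symm z, ⟨Subgroup.mem_center_iff.2 fun g => σ.injective ?_, σ.injective ?_⟩,
        σ.apply_symm_apply z⟩
      · rw [map_mul, map_mul, σ.apply_symm_apply]; exact Subgroup.mem_center_iff.1 hz.1 _
      · rw [map_pow, σ.apply_symm_apply, map_one]; exact hz.2
  let τ : MulAut (Q ⧸ Z) := QuotientGroup.congr Z Z σ hσZ'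
  obtain ⟨yb, hyb, hτ⟩ := IH _ hlt (Q ⧸ Z) rfl (hQ.to_quotient Z) τ C
    (QuotientGroup.lift Z f fun z hz => hfZ z hz)
    (fun q => QuotientGroup.induction_on q fun a => hf a)
    (by obtain ⟨q, hq⟩ := hne; exact ⟨(q : Q ⧸ Z), hq⟩)
  obtain ⟨y, rfl⟩ := QuotientGroup.mk_surjective yb
  have hz : (y ^ 2)⁻¹ * σ y ∈ Z := by
    rw [← QuotientGroup.eq_one_iff]
    show ((y : Q ⧸ Z) ^ 2)⁻¹ * τ (y : Q ⧸ Z) = 1
    rw [hτ, inv_mul_cancel]
  by_cases hy5 : y ^ 5 = 1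
  · let A : Subgroup Q := (Subgroup.zpowers (y : Q ⧸ Z)).comap (QuotientGroup.mk' Z)
    have hA : ∀ a ∈ A, ∃ (i : ℤ) (z : Q), z ∈ Z ∧ a = y ^ i * z := by
      intro a ha
      obtain ⟨i, hi⟩ := Subgroup.mem_zpowers_iff.1 ha
      exact ⟨i, (y ^ i)⁻¹ * a, QuotientGroup.eq.1 hi, by group⟩
    refine of_elementary σ A ?_ ?_ ?_ (QuotientGroup.mk' Z) ?_ ?_
    · intro a ha b hb
      obtain ⟨i, z, hz1, rfl⟩ := hA a ha
      obtain ⟨j, w, hw1, rfl⟩ := hA b hb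
      have cz : ∀ g, Commute z g := fun g => (Subgroup.mem_center_iff.1 hz1.1 g).symm
      have cw : ∀ g, Commute w g := fun g => (Subgroup.mem_center_iff.1 hw1.1 g).symm
      exact (((Commute.zpow_zpow (Commute.refl y) i j).mul_right (cw _).symm).mul_left (cz _)).eq
    · intro a ha
      obtain ⟨i, z, hz1, rfl⟩ := hA a ha
      rw [Commute.mul_pow (show Commute (y ^ i) z from Subgroup.mem_center_iff.1 hz1.1 _), hz1.2, mul_one,
        ← zpow_natCast, ← zpow_mul, mul_comm, zpow_mul, zpow_natCast, hy5, one_zpow]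
    · intro a ha
      show τ (a : Q ⧸ Z) ∈ Subgroup.zpowers (y : Q ⧸ Z)
      obtain ⟨i, hi⟩ := Subgroup.mem_zpowers_iff.1 ha
      rw [show (a : Q ⧸ Z) = (y : Q ⧸ Z) ^ i from hi.symm, map_zpow, hτ]
      exact Subgroup.zpow_mem _ (Subgroup.pow_mem _ (Subgroup.mem_zpowers _) 2) i
    · intro a ha
      obtain ⟨i, hi⟩ := Subgroup.mem_zpowers_iff.1 ha
      show τ (a : Q ⧸ Z) = (a : Q ⧸ Z) ^ 2
      rw [show (a : Q ⧸ Z) = (y : Q ⧸ Z) ^ i from hi.symm, map_zpow, hτ, ← zpow_natCast, ← zpow_natCast,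
        ← zpow_mul, ← zpow_mul, mul_comm]
    · refine ⟨y, Subgroup.mem_zpowers _, fun e => ?_⟩
      rw [show (y : Q ⧸ Z) = 1 from e, orderOf_one] at hyb
      omega
  · refine ⟨y ^ 5, orderOf_eq_prime ?_ hy5, ?_⟩
    · have : ((y ^ 5 : Q) : Q ⧸ Z) = 1 := by
        rw [QuotientGroup.mk_pow, ← hyb, pow_orderOf_eq_one]
      exact ((QuotientGroup.eq_one_iff _).1 this).2
    · have e : σ y = y ^ 2 * ((y ^ 2)⁻¹ * σ y) := by group
      rw [map_pow, e, Commute.mul_pow (show Commute (y ^ 2) _ from Subgroup.mem_center_iff.1 hz.1 _),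
        hz.2, mul_one, ← pow_mul, ← pow_mul]

/-- An element of order five conjugate to its square lifts. -/
theorem exists_lift {H : Type u} {A : Type v} [Group H] [Finite H] [Group A] (π : H →* A) (hπ : Function.Surjective π)
    (c t : A) (hc : orderOf c = 5) (ht : t * c * t⁻¹ = c ^ 2) :
    ∃ y g : H, orderOf y = 5 ∧ g * y * g⁻¹ = y ^ 2 := by
  classical
  haveI : Fact (Nat.Prime 5) := ⟨by norm_num⟩
  obtain ⟨c0, hc0⟩ := hπ c
  obtain ⟨t0, ht0⟩ := hπ t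
  let C : Subgroup H := (Subgroup.zpowers c).comap π
  -- a lift of five-power order
  obtain ⟨a, ha, hpa⟩ : ∃ a : ℕ, (c0 ^ a) ^ (5 ^ (orderOf c0).factorization 5) = 1 ∧ π (c0 ^ a) = c := by
    have hcop : (ordCompl[5] (orderOf c0)).Coprime 5 :=
      (Nat.coprime_ordCompl (by norm_num) (orderOf_pos c0).ne').symm
    obtain ⟨i, -, hi⟩ := Nat.exists_mul_mod_eq_one_of_coprime hcop (by norm_num)
    refine ⟨ordCompl[5] (orderOf c0) * i, ?_, ?_⟩
    · rw [← pow_mul, mul_right_comm, mul_comm (ordCompl[5] (orderOf c0)), Nat.ordProj_mul_ordCompl_eq_self, pow_mul, pow_orderOf_eq_one, one_pow]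
    · rw [map_pow, hc0, pow_eq_pow_mod _ (hc ▸ pow_orderOf_eq_one c), hi, pow_one]
  have hmemC : c0 ^ a ∈ C := by
    show π (c0 ^ a) ∈ Subgroup.zpowers c
    rw [hpa]; exact Subgroup.mem_zpowers c
  have hcyc : IsPGroup 5 ↥(Subgroup.zpowers (⟨c0 ^ a, hmemC⟩ : ↥C)) := by
    rw [IsPGroup.iff_card]
    have : orderOf (⟨c0 ^ a, hmemC⟩ : ↥C) ∣ 5 ^ (orderOf c0).factorization 5 :=
      orderOf_dvd_of_pow_eq_one (Subtype.ext ha)
    obtain ⟨j, -, hj⟩ := (Nat.dvd_prime_pow (by norm_num)).1 this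
    exact ⟨j, by rw [Nat.card_zpowers, hj]⟩
  obtain ⟨P, hP⟩ := hcyc.exists_le_sylow
  let PH : Subgroup H := (P : Subgroup ↥C).map C.subtype
  -- conjugation by `t0` preserves the preimage, hence moves `P` to a conjugate
  have hC : C.map (MulAut.conj t0).toMonoidHom = C := by
    apply le_antisymm
    · rintro _ ⟨x, hx, rfl⟩
      obtain ⟨i, hi⟩ := Subgroup.mem_zpowers_iff.1 hx
      show π (t0 * x * t0⁻¹) ∈ Subgroup.zpowers c
      rw [map_mul, map_mul, map_inv, ht0, ← hi, ← conj_zpow, ht]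
      exact Subgroup.zpow_mem _ (Subgroup.pow_mem _ (Subgroup.mem_zpowers c) 2) i
    · intro x hx
      obtain ⟨i, hi⟩ := Subgroup.mem_zpowers_iff.1 hx
      refine ⟨t0⁻¹ * x * t0, ?_, by show t0 * (t0⁻¹ * x * t0) * t0⁻¹ = x; group⟩
      show π (t0⁻¹ * x * t0) ∈ Subgroup.zpowers c
      have e : t⁻¹ * c * t = c ^ 3 := by
        have h5 : c ^ 5 = 1 := hc ▸ pow_orderOf_eq_one c
        calc t⁻¹ * c * t = t⁻¹ * (c ^ 5 * c) * t := by rw [h5, one_mul]
          _ = t⁻¹ * (c ^ 2) ^ 3 * t := by rw [← pow_succ, ← pow_mul]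
          _ = t⁻¹ * (t * c * t⁻¹) ^ 3 * t := by rw [ht]
          _ = c ^ 3 := by rw [conj_pow]; group
      rw [map_mul, map_mul, map_inv, ht0, ← hi]
      nth_rw 2 [← inv_inv t]
      rw [← conj_zpow, inv_inv, e]
      exact Subgroup.zpow_mem _ (Subgroup.pow_mem _ (Subgroup.mem_zpowers c) 3) i
  let e : ↥C ≃* ↥C := ((MulAut.conj t0).subgroupMap C).trans (MulEquiv.subgroupCongr hC)
  obtain ⟨x, hx⟩ := MulAction.exists_smul_eq ↥C (P.mapSurjective (f := e.toMonoidHom) e.surjective) P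
  let g : H := (x : H) * t0
  have hgP : ∀ y ∈ PH, g * y * g⁻¹ ∈ PH := by
    rintro _ ⟨y, hy, rfl⟩
    have h1 : x * e y * x⁻¹ ∈ (P : Subgroup ↥C) := by
      rw [← hx]
      exact Subgroup.mem_map.2 ⟨e y, Subgroup.mem_map.2 ⟨y, hy, rfl⟩, rfl⟩
    refine ⟨_, h1, ?_⟩
    show (x : H) * (t0 * (y : H) * t0⁻¹) * (x : H)⁻¹ = g * (y : H) * g⁻¹
    simp only [g]
    group
  have hgPH : PH.map (MulAut.conj g).toMonoidHom = PH := by
    refine Subgroup.eq_of_le_of_card_ge (by rintro _ ⟨y, hy, rfl⟩; exact hgP y hy) ?_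
    have hinj : Function.Injective (MulAut.conj g).toMonoidHom := (MulAut.conj g).injective
    exact (Subgroup.card_map_of_injective hinj).ge
  let σ : MulAut ↥PH := ((MulAut.conj g).subgroupMap PH).trans (MulEquiv.subgroupCongr hgPH)
  have hσ : ∀ q : ↥PH, ((σ q : ↥PH) : H) = g * (q : H) * g⁻¹ := fun q => rfl
  obtain ⟨y, hy, hy2⟩ := of_equivariant _ ↥PH rfl (P.isPGroup'.map C.subtype) σ A (π.comp PH.subtype)
    (fun q => by
      obtain ⟨q0, -, hq0⟩ := q.2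
      obtain ⟨i, hi⟩ := Subgroup.mem_zpowers_iff.1 (q0.2 : π (q0 : H) ∈ Subgroup.zpowers c)
      obtain ⟨j, hj⟩ := Subgroup.mem_zpowers_iff.1 (x.2 : π (x : H) ∈ Subgroup.zpowers c)
      show π ((σ q : ↥PH) : H) = π (q : H) ^ 2
      have hqc : π (q : H) = c ^ i := by rw [← hq0]; exact hi.symm
      rw [hσ, map_mul, map_mul, map_inv, map_mul, ht0, ← hj, hqc, mul_inv_rev]
      rw [show c ^ j * t * c ^ i * (t⁻¹ * (c ^ j)⁻¹) = c ^ j * (t * c ^ i * t⁻¹) * (c ^ j)⁻¹ by group,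
        ← conj_zpow, ht]
      group)
    ⟨⟨c0 ^ a, ⟨⟨c0 ^ a, hmemC⟩, hP (Subgroup.mem_zpowers _), rfl⟩⟩, fun e => by
      have : c = 1 := hpa ▸ e
      rw [this, orderOf_one] at hc
      omega⟩
  refine ⟨y, g, by rw [Subgroup.orderOf_coe]; exact hy, ?_⟩
  rw [← hσ, hy2]
  rfl

end Cfsg.Agent.H75.GTwo.Five
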