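import Cfsg.Agent.H75.GTwo.Cover
import Cfsg.Agent.H75.GTwo.Five
import Cfsg.Agent.H75.GTwo.Eight

/-!
The degree of an alternating section of a group of type G2 is at most six, or seven in characteristic five.
-/

set_option autoImplicit false

namespace Cfsg.Agent.H75.GTwo

open Equiv

universe u

/-- A five-cycle of the alternating group of degree seven. -/
def five : ↥(alternatingGroup (Fin 7)) :=
  ⟨swap 0 1 * swap 1 2 * swap 2 3 * swap 3 4, Equiv.Perm.mem_alternatingGroup.2 (by decide +kernel)⟩

/-- An element squaring the five-cycle by conjugation. -/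
def squarer : ↥(alternatingGroup (Fin 7)) :=
  ⟨swap 1 2 * swap 2 4 * swap 4 3 * swap 5 6, Equiv.Perm.mem_alternatingGroup.2 (by decide +kernel)⟩

theorem five_sq : squarer * five * squarer⁻¹ = five ^ 2 := by decide +kernel

theorem five_order : orderOf five = 5 :=
  haveI : Fact (Nat.Prime 5) := ⟨by norm_num⟩
  orderOf_eq_prime (by decide +kernel) (by decide +kernel)

/-- A subgroup mapping onto a given alternating group of degree at most `r`. -/
theorem exists_alt_section {H : Type*} [Group H] {r m : ℕ} (hmr : m ≤ r)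
    (π : H →* ↥(alternatingGroup (Fin r))) (hπ : Function.Surjective π) :
    ∃ (S : Subgroup H) (φ : ↥S →* ↥(alternatingGroup (Fin m))), Function.Surjective φ := by
  classical
  let e : Fin m ≃ {x : Fin r // x.val < m} :=
    { toFun := fun i => ⟨⟨i.val, i.isLt.trans_le hmr⟩, i.isLt⟩
      invFun := fun x => ⟨x.1.val, x.2⟩
      left_inv := fun _ => rfl
      right_inv := fun _ => rfl }
  let ι : ↥(alternatingGroup (Fin m)) →* ↥(alternatingGroup (Fin r)) :=
    ((Equiv.Perm.extendDomainHom e).comp (alternatingGroup (Fin m)).subtype).codRestrict _ fun s => by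
      rw [Equiv.Perm.mem_alternatingGroup]
      show Equiv.Perm.sign (Equiv.Perm.extendDomain (s : Equiv.Perm (Fin m)) e) = 1
      rw [Equiv.Perm.sign_extendDomain]
      exact Equiv.Perm.mem_alternatingGroup.1 s.2
  have hι : Function.Injective ι := fun a b h =>
    Subtype.ext (Equiv.Perm.extendDomainHom_injective e (congrArg Subtype.val h))
  let S : Subgroup H := ι.range.comap π
  refine ⟨S, (MonoidHom.ofInjective hι).symm.toMonoidHom.comp
    ((π.comp S.subtype).codRestrict ι.range fun s => s.2), ?_⟩
  refine (MonoidHom.ofInjective hι).symm.surjective.comp ?_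
  rintro ⟨x, hx⟩
  obtain ⟨h, rfl⟩ := hπ x
  exact ⟨⟨h, hx⟩, rfl⟩

/-- Alternating sections of the groups of type G2. -/
theorem alt_section_bound {F : Type u} [Field F] [Fintype F] (p : ℕ) [Fact p.Prime] [CharP F p] (r : ℕ)
    (H : Subgroup ↥(Cfsg.Lie.chevG2.group F)) (K : Subgroup ↥H) [K.Normal]
    (h : Nonempty (↥H ⧸ K ≃* ↥(alternatingGroup (Fin r)))) :
    r ≤ 6 + (if p = 5 then 1 else 0) := by
  classical
  obtain ⟨e⟩ := h
  obtain ⟨L, hfin, φ, hφ⟩ := exists_cover F H
  let π : ↥L →* ↥(alternatingGroup (Fin r)) := (e.toMonoidHom.comp (QuotientGroup.mk' K)).comp φ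
  have hπ : Function.Surjective π := (e.surjective.comp (QuotientGroup.mk'_surjective K)).comp hφ
  haveI : CharP (AlgebraicClosure F) p :=
    charP_of_injective_algebraMap (algebraMap F (AlgebraicClosure F)).injective p
  by_cases hp : p = 5
  · rw [if_pos hp]
    subst hp
    by_contra hr
    obtain ⟨S, ψ, hψ⟩ := exists_alt_section (m := 8) (by omega) π hπ
    have h2 : (2 : AlgebraicClosure F) ≠ 0 := fun e0 => by
      have := (CharP.cast_eq_zero_iff (AlgebraicClosure F) 5 2).1 (by exact_mod_cast e0)
      norm_num at this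
    have h3 : (3 : AlgebraicClosure F) ≠ 0 := fun e0 => by
      have := (CharP.cast_eq_zero_iff (AlgebraicClosure F) 5 3).1 (by exact_mod_cast e0)
      norm_num at this
    exact Eight.no_section h2 h3 _ (L.subtype.comp S.subtype) (L.subtype_injective.comp S.subtype_injective)
      ψ hψ rfl
  · rw [if_neg hp, add_zero]
    by_contra hr
    obtain ⟨S, ψ, hψ⟩ := exists_alt_section (m := 7) (by omega) π hπ
    obtain ⟨y, g, hy, hg⟩ := Five.exists_lift ψ hψ five squarer five_order five_sq
    have h5 : (5 : AlgebraicClosure F) ≠ 0 := fun e0 => hp <| by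
      have := (CharP.cast_eq_zero_iff (AlgebraicClosure F) p 5).1 (by exact_mod_cast e0)
      exact (Nat.prime_dvd_prime_iff_eq (Fact.out : p.Prime) (by norm_num)).1 this
    refine no_five h5 (g := ((y : ↥L) : ↥(Cfsg.Lie.G2 (AlgebraicClosure F))))
      (t := ((g : ↥L) : ↥(Cfsg.Lie.G2 (AlgebraicClosure F)))) ?_ ?_
    · rw [Subgroup.orderOf_coe, Subgroup.orderOf_coe, hy]
    · have := congrArg (fun s : ↥S => ((s : ↥L) : ↥(Cfsg.Lie.G2 (AlgebraicClosure F)))) hg
      exact this

end Cfsg.Agent.H75.GTwo
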