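import Cfsg.Agent.H75.GTwo.Elements

/-!
Elementary abelian groups of order nine of octonion automorphisms in characteristic prime to three: exactly one
cyclic subgroup fixes a plane, the centraliser is abelian, and there is no larger elementary abelian three-group.
-/

set_option autoImplicit false

namespace Cfsg.Agent.H75.GTwo

open Module Oct Eigen
open Cfsg.Lie (zornMul)

variable {k : Type*} [Field k]

theorem esp_invariant {g h : ↥(Cfsg.Lie.G2 k)} (hc : g * h = h * g) (μ : k) {v : Fin 8 → k}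
    (hv : v ∈ Esp g μ) : act h v ∈ Esp g μ := by
  rw [mem_esp] at hv ⊢
  rw [← Module.End.mul_apply, ← map_mul, hc, map_mul, Module.End.mul_apply, hv, map_smul]

theorem joint_le {g h : ↥(Cfsg.Lie.G2 k)} (h3 : (3 : k) ≠ 0) (hg : g ^ 3 = 1) (hh : h ^ 3 = 1)
    (hc : g * h = h * g) {μ μ' ν ν' : k} (e1 : μ * μ' = 1) (e2 : ν * ν' = 1) (c1 : μ' ^ 3 = 1)
    (c2 : ν' ^ 3 = 1) :
    finrank k ↥(Esp g μ ⊓ Esp h ν) ≤ finrank k ↥(Esp g μ' ⊓ Esp h ν') := by
  have hn : ((3 : ℕ) : k) ≠ 0 := by exact_mod_cast h3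
  refine finrank_le_of_pol fun x hx hxz => eq_zero_of_pol _ fun y => ?_
  rw [← pol_proj hn e1 hx.1 y, ← pol_proj hn e2 hx.2]
  refine hxz _ ⟨?_, mem_esp.2 (proj_mem (act_pow_eq_one hh) c2 (by norm_num) _)⟩
  exact proj_invariant (fun w hw => esp_invariant hc _ hw) _ _
    (mem_esp.2 (proj_mem (act_pow_eq_one hg) c1 (by norm_num) y))

theorem esp_one_one (μ : k) (hμ : μ = 1) : Esp (1 : ↥(Cfsg.Lie.G2 k)) μ = ⊤ := by
  subst hμ
  ext v
  simp [mem_esp]

variable [IsAlgClosed k]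

theorem exists_omega (h3 : (3 : k) ≠ 0) : ∃ ω : k, IsPrimitiveRoot ω 3 :=
  haveI : NeZero ((3 : ℕ) : k) := ⟨by exact_mod_cast h3⟩
  HasEnoughRootsOfUnity.exists_primitiveRoot k 3

omit [IsAlgClosed k] in
theorem sum_three {g : ↥(Cfsg.Lie.G2 k)} {ω : k} (h3 : (3 : k) ≠ 0) (hω : IsPrimitiveRoot ω 3)
    (hg : g ^ 3 = 1) {W : Submodule k (Fin 8 → k)} (hW : ∀ w ∈ W, act g w ∈ W) :
    finrank k ↥W = finrank k ↥(W ⊓ Esp g 1) + finrank k ↥(W ⊓ Esp g ω) +
      finrank k ↥(W ⊓ Esp g (ω * ω)) := by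
  rw [finrank_eq_sum (T := act g) (by exact_mod_cast h3) hω (act_pow_eq_one hg) hW,
    Fin.sum_univ_eq_sum_range (fun i => finrank k ↥(W ⊓ (act g).eigenspace (ω ^ i)))]
  simp only [Finset.sum_range_succ, Finset.sum_range_zero, zero_add]
  rw [show ω ^ 0 = 1 from pow_zero ω, show ω ^ 1 = ω from pow_one ω, show ω ^ 2 = ω * ω from pow_two ω]

omit [IsAlgClosed k] in
theorem sum_top {g : ↥(Cfsg.Lie.G2 k)} {ω : k} (h3 : (3 : k) ≠ 0) (hω : IsPrimitiveRoot ω 3)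
    (hg : g ^ 3 = 1) :
    8 = finrank k ↥(Esp g 1) + finrank k ↥(Esp g ω) + finrank k ↥(Esp g (ω * ω)) := by
  have h := sum_three h3 hω hg (W := ⊤) (fun _ _ => trivial)
  rwa [finrank_eight, top_inf_eq, top_inf_eq, top_inf_eq] at h

/-- An element of order three fixes a plane or a four-dimensional subspace. -/
theorem fix_three (h3 : (3 : k) ≠ 0) {g : ↥(Cfsg.Lie.G2 k)} (hg : g ^ 3 = 1) (hne : g ≠ 1) :
    finrank k ↥(Esp g 1) = 2 ∨ finrank k ↥(Esp g 1) = 4 := by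
  obtain ⟨ω, hω⟩ := exists_omega h3
  have hw3 : ω ^ 3 = 1 := hω.pow_eq_one
  have hw3' : (ω * ω) ^ 3 = 1 := by rw [mul_pow, hw3, one_mul]
  have e : ω * (ω * ω) = 1 := by rw [← hw3]; ring
  have htop : ∀ A : Submodule k (Fin 8 → k), finrank k ↥(A ⊓ Esp (1 : ↥(Cfsg.Lie.G2 k)) 1) = finrank k ↥A :=
    fun A => by rw [esp_one_one 1 rfl, inf_top_eq]
  have l1 := joint_le h3 hg (one_pow 3) (by simp : g * 1 = 1 * g) e (one_mul 1) hw3' (one_pow 3)
  have l2 := joint_le h3 hg (one_pow 3) (by simp : g * 1 = 1 * g) (mul_comm ω _ ▸ e : (ω * ω) * ω = 1)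
    (one_mul 1) hw3 (one_pow 3)
  rw [htop, htop] at l1 l2
  have hsum := sum_top h3 hω hg
  have hpos := finrank_fixed_pos g
  rcases Nat.eq_zero_or_pos (finrank k ↥(Esp g ω)) with h0 | h0
  · have h8 : finrank k ↥(Esp g 1) = 8 := by omega
    have ht : Esp g 1 = ⊤ := Submodule.eq_top_of_finrank_eq (by simpa using h8)
    refine absurd (act_injective ?_) hne
    rw [map_one]
    exact LinearMap.ext fun v => by simpa using mem_esp.1 (ht ▸ Submodule.mem_top : v ∈ Esp g 1)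
  rcases Nat.lt_or_ge 1 (finrank k ↥(Esp g ω)) with h | h
  · omega
  · have := fixed_le_two_of_simple (n := 3) (by exact_mod_cast h3) hg (μ := ω) (by omega)
    omega

omit [IsAlgClosed k] in
theorem sq_cube {g : ↥(Cfsg.Lie.G2 k)} (hg : g ^ 3 = 1) : (g * g) ^ 3 = 1 := by
  rw [← pow_two, ← pow_mul, mul_comm, pow_mul, hg, one_pow]

omit [IsAlgClosed k] in
theorem fix_sq {g : ↥(Cfsg.Lie.G2 k)} (hg : g ^ 3 = 1) : Esp (g * g) (1 : k) = Esp g 1 := by
  have h := esp_sq_of_pow_eq_one (k := k) (m := 2) hg (by norm_num) (μ := 1) (one_pow 3)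
  rwa [one_mul] at h

omit [IsAlgClosed k] in
/-- The fixed space of a product, split by the eigenspaces of the factors. -/
theorem fix_mul {g h : ↥(Cfsg.Lie.G2 k)} {ω : k} (h3 : (3 : k) ≠ 0) (hω : IsPrimitiveRoot ω 3)
    (hg : g ^ 3 = 1) (hc : g * h = h * g) :
    finrank k ↥(Esp (g * h) 1) = finrank k ↥(Esp g 1 ⊓ Esp h 1) +
      finrank k ↥(Esp g ω ⊓ Esp h (ω * ω)) + finrank k ↥(Esp g (ω * ω) ⊓ Esp h ω) := by
  have key : ∀ μ ν : k, μ * ν = 1 → Esp (g * h) 1 ⊓ Esp g μ = Esp g μ ⊓ Esp h ν := by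
    intro μ ν e
    have hμ : μ ≠ 0 := left_ne_zero_of_mul_eq_one e
    ext v
    simp only [Submodule.mem_inf, mem_esp]
    refine ⟨fun ⟨h1, h2⟩ => ⟨h2, ?_⟩, fun ⟨h1, h2⟩ => ⟨?_, h1⟩⟩
    · rw [one_smul, map_mul, Module.End.mul_apply] at h1
      have hv : act g (ν • v) = v := by rw [map_smul, h2, smul_smul, mul_comm, e, one_smul]
      exact (Function.LeftInverse.injective (act_inv' g)) (h1.trans hv.symm)
    · rw [one_smul, map_mul, Module.End.mul_apply, h2, map_smul, h1, smul_smul, mul_comm, e, one_smul]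
  rw [sum_three h3 hω hg (W := Esp (g * h) 1)
      (fun w hw => esp_invariant (by rw [mul_assoc, ← hc]) _ hw),
    key 1 1 (one_mul 1), key ω (ω * ω) (by rw [← hω.pow_eq_one]; ring),
    key (ω * ω) ω (by rw [← hω.pow_eq_one]; ring)]

/-- Two commuting elements of order three generating a group of order nine. -/
structure NinePair (g h : ↥(Cfsg.Lie.G2 k)) : Prop where
  pg : g ^ 3 = 1
  ph : h ^ 3 = 1
  comm : g * h = h * g
  n1 : g ≠ 1
  n2 : h ≠ 1
  n3 : g * h ≠ 1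
  n4 : g * (h * h) ≠ 1

omit [IsAlgClosed k] in
theorem joint_sum {g h : ↥(Cfsg.Lie.G2 k)} {ω : k} (h3 : (3 : k) ≠ 0) (hω : IsPrimitiveRoot ω 3)
    (hh : h ^ 3 = 1) (hc : g * h = h * g) (μ : k) :
    finrank k ↥(Esp g μ) = finrank k ↥(Esp g μ ⊓ Esp h 1) + finrank k ↥(Esp g μ ⊓ Esp h ω) +
      finrank k ↥(Esp g μ ⊓ Esp h (ω * ω)) :=
  sum_three h3 hω hh fun w hw => esp_invariant hc _ hw

/-- Fixed-point dimensions of the four cyclic subgroups. -/
theorem four_fix (h3 : (3 : k) ≠ 0) {g h : ↥(Cfsg.Lie.G2 k)} (P : NinePair g h) :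
    finrank k ↥(Esp g 1 ⊓ Esp h 1) = 2 ∧
      finrank k ↥(Esp g 1) + finrank k ↥(Esp h 1) + finrank k ↥(Esp (g * h) 1) +
        finrank k ↥(Esp (g * (h * h)) 1) = 14 := by
  obtain ⟨ω, hω⟩ := exists_omega h3
  have hc' : g * (h * h) = (h * h) * g := (Commute.mul_right (show Commute g h from P.comm) (show Commute g h from P.comm)).eq
  have hw3 : ω ^ 3 = 1 := hω.pow_eq_one
  have eh : ∀ μ : k, μ ^ 3 = 1 → Esp (h * h) (μ * μ) = Esp h μ := fun μ hμ =>
    esp_sq_of_pow_eq_one (m := 2) P.ph (by norm_num) hμ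
  have eh1 : Esp (h * h) (1 : k) = Esp h 1 := fix_sq P.ph
  have ehw : Esp (h * h) (ω * ω) = Esp h ω := eh ω hw3
  have ehww : Esp (h * h) ω = Esp h (ω * ω) := by
    rw [← eh (ω * ω) (by rw [mul_pow, hw3, one_mul]),
      show ω * ω * (ω * ω) = ω by linear_combination ω * hw3]
  have a := sum_top h3 hω P.pg
  have b0 := joint_sum h3 hω P.ph P.comm (g := g) 1
  have b1 := joint_sum h3 hω P.ph P.comm (g := g) ω
  have b2 := joint_sum h3 hω P.ph P.comm (g := g) (ω * ω)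
  have c0 := joint_sum h3 hω P.pg P.comm.symm (g := h) 1
  rw [inf_comm (Esp h 1), inf_comm (Esp h 1), inf_comm (Esp h 1)] at c0
  have d := fix_mul h3 hω P.pg P.comm
  have d' := fix_mul h3 hω P.pg hc'
  rw [eh1, ehw, ehww] at d'
  have hpos : 0 < finrank k ↥(Esp g 1 ⊓ Esp h 1) := by
    have h1 : (one8 : Fin 8 → k) ∈ Esp g 1 ⊓ Esp h 1 :=
      ⟨mem_esp.2 (by rw [act_one8, one_smul]), mem_esp.2 (by rw [act_one8, one_smul])⟩
    have h0 : (one8 : Fin 8 → k) ≠ 0 := fun e => one_ne_zero (congrFun e 0)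
    exact Module.finrank_pos_iff_exists_ne_zero.2 ⟨⟨_, h1⟩, fun e => h0 (congrArg Subtype.val e)⟩
  have q1 := fix_three h3 P.pg P.n1
  have q2 := fix_three h3 P.ph P.n2
  have q3 := fix_three h3 (by rw [Commute.mul_pow P.comm, P.pg, P.ph, one_mul]) P.n3
  have q4 := fix_three h3 (by rw [Commute.mul_pow hc', P.pg, sq_cube P.ph, one_mul]) P.n4
  omega

/-- A group of order nine is not normalised by an element whose square inverts it. -/
theorem no_inverting (h3 : (3 : k) ≠ 0) {g h t : ↥(Cfsg.Lie.G2 k)} (P : NinePair g h)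
    (htg : ∃ a b : ℕ, t * g * t⁻¹ = g ^ a * h ^ b) (hth : ∃ a b : ℕ, t * h * t⁻¹ = g ^ a * h ^ b)
    (ig : (t * t) * g * (t * t)⁻¹ = g⁻¹) (ih : (t * t) * h * (t * t)⁻¹ = h⁻¹) : False := by
  obtain ⟨-, hsum⟩ := four_fix h3 P
  have q1 := fix_three h3 P.pg P.n1
  have q2 := fix_three h3 P.ph P.n2
  have q3 := fix_three h3 (by rw [Commute.mul_pow P.comm, P.pg, P.ph, one_mul]) P.n3
  have hc' : g * (h * h) = (h * h) * g := (Commute.mul_right (show Commute g h from P.comm) (show Commute g h from P.comm)).eq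
  have q4 := fix_three h3 (by rw [Commute.mul_pow hc', P.pg, sq_cube P.ph, one_mul]) P.n4
  have C : Commute g h := P.comm
  -- every member of the group is `g ^ a * h ^ b` with `a, b < 3`
  have hred : ∀ a b : ℕ, g ^ a * h ^ b = g ^ (a % 3) * h ^ (b % 3) := fun a b => by
    rw [pow_eq_pow_mod a P.pg, pow_eq_pow_mod b P.ph]
  have hcl : ∀ v : ↥(Cfsg.Lie.G2 k), (∃ a b : ℕ, v = g ^ a * h ^ b) →
      v = 1 ∨ v = g ∨ v = g * g ∨ v = h ∨ v = h * h ∨ v = g * h ∨ v = (g * h) * (g * h) ∨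
        v = g * (h * h) ∨ v = (g * (h * h)) * (g * (h * h)) := by
    rintro v ⟨a, b, rfl⟩
    rw [hred]
    have hh4 : h * h * (h * h) = h := by
      calc h * h * (h * h) = h ^ 3 * h := by simp [pow_succ, mul_assoc]
        _ = h := by rw [P.ph, one_mul]
    have hgh : g * h * (g * h) = g * g * (h * h) := by rw [C.symm.mul_mul_mul_comm]
    have hghh : g * (h * h) * (g * (h * h)) = g * g * h := by
      rw [Commute.mul_mul_mul_comm (hc'.symm : Commute (h * h) g), hh4]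
    have := Nat.mod_lt a (show 0 < 3 by norm_num)
    have := Nat.mod_lt b (show 0 < 3 by norm_num)
    interval_cases a % 3 <;> interval_cases b % 3 <;>
      simp only [pow_zero, pow_one, pow_two, one_mul, mul_one, hgh, hghh, true_or, or_true]
  -- the element fixing only a plane
  obtain ⟨u, hu, hu3, hu1, hu2, huq⟩ : ∃ u : ↥(Cfsg.Lie.G2 k), (∃ a b : ℕ, u = g ^ a * h ^ b) ∧ u ^ 3 = 1 ∧
      u ≠ 1 ∧ finrank k ↥(Esp u 1) = 2 ∧ ∀ v, (∃ a b : ℕ, v = g ^ a * h ^ b) → finrank k ↥(Esp v 1) = 2 → v = u ∨ v = u * u := by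
    have hp : ∀ v : ↥(Cfsg.Lie.G2 k), v = 1 → finrank k ↥(Esp v 1) ≠ 2 := by
      rintro v rfl
      rw [esp_one_one 1 rfl, finrank_eight]
      norm_num
    have e1 : finrank k ↥(Esp (g * g) 1) = finrank k ↥(Esp g 1) := by rw [fix_sq P.pg]
    have e2 : finrank k ↥(Esp (h * h) 1) = finrank k ↥(Esp h 1) := by rw [fix_sq P.ph]
    have p3 : (g * h) ^ 3 = 1 := by rw [C.mul_pow, P.pg, P.ph, one_mul]
    have p4 : (g * (h * h)) ^ 3 = 1 := by rw [Commute.mul_pow hc', P.pg, sq_cube P.ph, one_mul]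
    have e3 : finrank k ↥(Esp ((g * h) * (g * h)) 1) = finrank k ↥(Esp (g * h) 1) := by rw [fix_sq p3]
    have e4 : finrank k ↥(Esp ((g * (h * h)) * (g * (h * h))) 1) = finrank k ↥(Esp (g * (h * h)) 1) := by
      rw [fix_sq p4]
    by_cases w1 : finrank k ↥(Esp g 1) = 2
    · refine ⟨g, ⟨1, 0, by simp⟩, P.pg, P.n1, w1, fun v hv hf => ?_⟩
      rcases hcl v hv with e | e | e | e | e | e | e | e | e <;>
        first
        | exact absurd hf (hp v e)
        | exact Or.inl e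
        | exact Or.inr e
        | (rw [e] at hf; omega)
    by_cases w2 : finrank k ↥(Esp h 1) = 2
    · refine ⟨h, ⟨0, 1, by simp⟩, P.ph, P.n2, w2, fun v hv hf => ?_⟩
      rcases hcl v hv with e | e | e | e | e | e | e | e | e <;>
        first
        | exact absurd hf (hp v e)
        | exact Or.inl e
        | exact Or.inr e
        | (rw [e] at hf; omega)
    by_cases w3 : finrank k ↥(Esp (g * h) 1) = 2
    · refine ⟨g * h, ⟨1, 1, by simp⟩, p3, P.n3, w3, fun v hv hf => ?_⟩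
      rcases hcl v hv with e | e | e | e | e | e | e | e | e <;>
        first
        | exact absurd hf (hp v e)
        | exact Or.inl e
        | exact Or.inr e
        | (rw [e] at hf; omega)
    · refine ⟨g * (h * h), ⟨1, 2, by simp [pow_two]⟩, p4, P.n4, by omega, fun v hv hf => ?_⟩
      rcases hcl v hv with e | e | e | e | e | e | e | e | e <;>
        first
        | exact absurd hf (hp v e)
        | exact Or.inl e
        | exact Or.inr e
        | (rw [e] at hf; omega)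
  obtain ⟨a, b, hab⟩ := hu
  -- `t` maps the group into itself and keeps fixed-point dimensions
  have himg : ∃ a' b' : ℕ, t * u * t⁻¹ = g ^ a' * h ^ b' := by
    obtain ⟨a1, b1, e1⟩ := htg
    obtain ⟨a2, b2, e2⟩ := hth
    refine ⟨a1 * a + a2 * b, b1 * a + b2 * b, ?_⟩
    rw [hab, ← conj_mul, ← conj_pow, ← conj_pow, e1, e2, (C.pow_pow a1 b1).mul_pow,
      (C.pow_pow a2 b2).mul_pow, pow_add, pow_add, ← pow_mul, ← pow_mul, ← pow_mul, ← pow_mul,
      Commute.mul_mul_mul_comm (C.symm.pow_pow _ _)]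
  have hfu : finrank k ↥(Esp (t * u * t⁻¹) 1) = 2 := by rw [finrank_esp_conj]; exact hu2
  have huu : (t * t) * u * (t * t)⁻¹ = u⁻¹ := by
    rw [hab, ← conj_mul, ← conj_pow, ← conj_pow, ig, ih, inv_pow, inv_pow, mul_inv_rev,
      (C.pow_pow a b).inv_inv.eq]
  have hfix : (t * t) * u * (t * t)⁻¹ = u := by
    rw [show (t * t) * u * (t * t)⁻¹ = t * (t * u * t⁻¹) * t⁻¹ by group]
    rcases huq _ himg hfu with e | e
    · rw [e, e]
    · rw [e, ← conj_mul, e]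
      calc u * u * (u * u) = u ^ 3 * u := by simp [pow_succ, mul_assoc]
        _ = u := by rw [hu3, one_mul]
  apply hu1
  have e2 : u * u = 1 := by
    nth_rw 1 [hfix.symm.trans huu]
    exact inv_mul_cancel u
  calc u = u ^ 3 * (u * u)⁻¹ := by group
    _ = 1 := by rw [hu3, e2, inv_one, one_mul]

omit [IsAlgClosed k] in
theorem commute_on_line {W : Submodule k (Fin 8 → k)} (hW : finrank k ↥W ≤ 1)
    (A B : Module.End k (Fin 8 → k)) (hA : ∀ w ∈ W, A w ∈ W) (hB : ∀ w ∈ W, B w ∈ W)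
    {v : Fin 8 → k} (hv : v ∈ W) : A (B v) = B (A v) := by
  obtain ⟨⟨w, hw⟩, hspan⟩ := finrank_le_one_iff.1 hW
  obtain ⟨c, hc⟩ := hspan ⟨v, hv⟩
  obtain ⟨a, ha⟩ := hspan ⟨A w, hA w hw⟩
  obtain ⟨b, hb⟩ := hspan ⟨B w, hB w hw⟩
  replace hc : c • w = v := congrArg Subtype.val hc
  replace ha : a • w = A w := congrArg Subtype.val ha
  replace hb : b • w = B w := congrArg Subtype.val hb
  rw [← hc]
  simp only [map_smul, ← hb, ← ha, smul_smul]
  congr 1
  ring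

/-- In characteristic different from two and three the centraliser of a group of order nine is abelian. -/
theorem centralizer_comm (h2 : (2 : k) ≠ 0) (h3 : (3 : k) ≠ 0) {g h : ↥(Cfsg.Lie.G2 k)} (P : NinePair g h)
    {A B : ↥(Cfsg.Lie.G2 k)} (Ag : g * A = A * g) (Ah : h * A = A * h) (Bg : g * B = B * g)
    (Bh : h * B = B * h) : A * B = B * A := by
  obtain ⟨ω, hω⟩ := exists_omega h3
  have hw3 : ω ^ 3 = 1 := hω.pow_eq_one
  have hw3' : (ω * ω) ^ 3 = 1 := by rw [mul_pow, hw3, one_mul]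
  have e : ω * (ω * ω) = 1 := by rw [← hw3]; ring
  have e' : (ω * ω) * ω = 1 := by rw [← hw3]; ring
  obtain ⟨d00, hsum⟩ := four_fix h3 P
  have l := fun {μ μ' ν ν' : k} (e1 : μ * μ' = 1) (e2 : ν * ν' = 1) (c1 : μ' ^ 3 = 1) (c2 : ν' ^ 3 = 1) =>
    joint_le h3 P.pg P.ph P.comm e1 e2 c1 c2
  have l01 := l (one_mul 1) e (one_pow 3) hw3'
  have l02 := l (one_mul 1) e' (one_pow 3) hw3
  have l10 := l e (one_mul 1) hw3' (one_pow 3)
  have l20 := l e' (one_mul 1) hw3 (one_pow 3)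
  have l11 := l e e hw3' hw3'
  have l22 := l e' e' hw3 hw3
  have l12 := l e e' hw3' hw3
  have l21 := l e' e hw3 hw3'
  have hc' : g * (h * h) = (h * h) * g := (Commute.mul_right (show Commute g h from P.comm) (show Commute g h from P.comm)).eq
  have eh : Esp (h * h) (ω * ω) = Esp h ω := esp_sq_of_pow_eq_one (m := 2) P.ph (by norm_num) hw3
  have ehww : Esp (h * h) ω = Esp h (ω * ω) := by
    rw [← esp_sq_of_pow_eq_one (m := 2) P.ph (by norm_num) hw3',
      show ω * ω * (ω * ω) = ω by linear_combination ω * hw3]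
  have b0 := joint_sum h3 hω P.ph P.comm (g := g) 1
  have c0 := joint_sum h3 hω P.pg P.comm.symm (g := h) 1
  rw [inf_comm (Esp h 1), inf_comm (Esp h 1), inf_comm (Esp h 1)] at c0
  have d := fix_mul h3 hω P.pg P.comm
  have d' := fix_mul h3 hω P.pg hc'
  rw [fix_sq P.ph, eh, ehww] at d'
  have q1 := fix_three h3 P.pg P.n1
  have q2 := fix_three h3 P.ph P.n2
  have q3 := fix_three h3 (by rw [Commute.mul_pow P.comm, P.pg, P.ph, one_mul]) P.n3
  have q4 := fix_three h3 (by rw [Commute.mul_pow hc', P.pg, sq_cube P.ph, one_mul]) P.n4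
  have hinv : ∀ (μ ν : k) (X : ↥(Cfsg.Lie.G2 k)), g * X = X * g → h * X = X * h →
      ∀ w ∈ Esp g μ ⊓ Esp h ν, act X w ∈ Esp g μ ⊓ Esp h ν := fun μ ν X hXg hXh w hw =>
    ⟨esp_invariant hXg _ hw.1, esp_invariant hXh _ hw.2⟩
  have hline : ∀ μ ν : k, finrank k ↥(Esp g μ ⊓ Esp h ν) ≤ 1 → ∀ v ∈ Esp g μ ⊓ Esp h ν,
      act A (act B v) = act B (act A v) := fun μ ν hd v hv =>
    commute_on_line hd _ _ (hinv μ ν A Ag Ah) (hinv μ ν B Bg Bh) hv
  have h00 : ∀ v ∈ Esp g 1 ⊓ Esp h 1, act A (act B v) = act B (act A v) := by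
    intro v hv
    let c : k := tr v / 2
    have hone : (one8 : Fin 8 → k) ∈ Esp g 1 ⊓ Esp h 1 :=
      ⟨mem_esp.2 (by rw [act_one8, one_smul]), mem_esp.2 (by rw [act_one8, one_smul])⟩
    have htr1 : tr (one8 : Fin 8 → k) = 2 := by
      show (1 : k) + 1 = 2
      norm_num
    have hw : v - c • one8 ∈ Esp g 1 ⊓ Esp h 1 ⊓ LinearMap.ker (tr (k := k)) := by
      refine ⟨sub_mem hv (Submodule.smul_mem _ _ hone), ?_⟩
      show tr (v - c • one8) = 0
      rw [map_sub, map_smul, htr1, smul_eq_mul, div_mul_cancel₀ _ h2, sub_self]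
    have hd : finrank k ↥(Esp g 1 ⊓ Esp h 1 ⊓ LinearMap.ker (tr (k := k))) ≤ 1 := by
      have hlt : Esp g 1 ⊓ Esp h 1 ⊓ LinearMap.ker (tr (k := k)) < Esp g 1 ⊓ Esp h 1 := by
        refine lt_of_le_of_ne inf_le_left fun e => h2 ?_
        rw [← htr1]
        exact ((SetLike.ext_iff.1 e _).2 hone).2
      have := Submodule.finrank_lt_finrank_of_lt hlt
      omega
    have hker : ∀ X : ↥(Cfsg.Lie.G2 k), g * X = X * g → h * X = X * h →
        ∀ w ∈ Esp g 1 ⊓ Esp h 1 ⊓ LinearMap.ker (tr (k := k)),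
          act X w ∈ Esp g 1 ⊓ Esp h 1 ⊓ LinearMap.ker (tr (k := k)) := fun X hXg hXh w hw =>
      ⟨hinv 1 1 X hXg hXh w hw.1, by
        show tr (act X w) = 0
        rw [(act_tr_nm X w).1]; exact hw.2⟩
    have := commute_on_line hd _ _ (hker A Ag Ah) (hker B Bg Bh) hw
    simp only [map_sub, map_smul, act_one8] at this
    exact sub_left_inj.1 this
  apply act_injective
  rw [map_mul, map_mul]
  refine LinearMap.ext fun v => ?_
  have hn : ((3 : ℕ) : k) ≠ 0 := by exact_mod_cast h3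
  rw [Module.End.mul_apply, Module.End.mul_apply, ← sum_proj (T := act g) hn hω v]
  simp only [map_sum]
  refine Finset.sum_congr rfl fun i _ => ?_
  obtain ⟨w, hwi⟩ : ∃ w, w = proj (act g) 3 (ω ^ (i : ℕ)) v := ⟨_, rfl⟩
  rw [← hwi, ← sum_proj (T := act h) hn hω w]
  simp only [map_sum]
  refine Finset.sum_congr rfl fun j _ => ?_
  have hpow : ∀ i : ℕ, (ω ^ i) ^ 3 = 1 := fun i => by rw [← pow_mul, mul_comm, pow_mul, hw3, one_pow]
  have hmem : proj (act h) 3 (ω ^ (j : ℕ)) w ∈ Esp g (ω ^ (i : ℕ)) ⊓ Esp h (ω ^ (j : ℕ)) :=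
    ⟨proj_invariant (fun u hu => esp_invariant P.comm _ hu) _ _
      (hwi ▸ mem_esp.2 (proj_mem (act_pow_eq_one P.pg) (hpow _) (by norm_num) v)),
      mem_esp.2 (proj_mem (act_pow_eq_one P.ph) (hpow _) (by norm_num) w)⟩
  fin_cases i <;> fin_cases j <;> simp only [pow_zero, pow_one, pow_two] at hmem ⊢ <;>
    first
    | exact h00 _ hmem
    | exact hline _ _ (by omega) _ hmem

theorem thirteen_planes (a0 a1 a2 a3 a4 a5 a6 a7 a8 a9 a10 a11 a12 : ℕ) (h0 : a0 + a1 + a2 + a3 = 14)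
    (h1 : a0 + a4 + a5 + a6 = 14)
    (h2 : a0 + a7 + a8 + a9 = 14)
    (h3 : a0 + a10 + a11 + a12 = 14)
    (h4 : a1 + a4 + a7 + a10 = 14)
    (h5 : a1 + a5 + a8 + a11 = 14)
    (h6 : a1 + a6 + a9 + a12 = 14)
    (h7 : a2 + a4 + a8 + a12 = 14)
    (h8 : a2 + a5 + a9 + a10 = 14)
    (h9 : a2 + a6 + a7 + a11 = 14)
    (h10 : a3 + a4 + a9 + a11 = 14)
    (h11 : a3 + a5 + a7 + a12 = 14)
    (h12 : a3 + a6 + a8 + a10 = 14) : False := by
  omega

set_option maxHeartbeats 1000000 in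
/-- There is no elementary abelian group of order twenty-seven. -/
theorem no_rank_three (h3 : (3 : k) ≠ 0) (f : Multiplicative (ZMod 3 × ZMod 3 × ZMod 3) →* ↥(Cfsg.Lie.G2 k))
    (hf : Function.Injective f) : False := by
  obtain ⟨F, hF⟩ : ∃ F : ZMod 3 × ZMod 3 × ZMod 3 → ℕ,
      ∀ v, F v = finrank k ↥(Esp (f (Multiplicative.ofAdd v)) 1) := ⟨_, fun _ => rfl⟩
  have hcube : ∀ v : ZMod 3 × ZMod 3 × ZMod 3, f (Multiplicative.ofAdd v) ^ 3 = 1 := fun v => by
    rw [← map_pow, ← ofAdd_nsmul, show 3 • v = 0 by revert v; decide, ofAdd_zero, map_one]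
  have hne : ∀ v : ZMod 3 × ZMod 3 × ZMod 3, v ≠ 0 → f (Multiplicative.ofAdd v) ≠ 1 := fun v hv e =>
    hv (ofAdd_eq_one.1 (hf (e.trans (map_one f).symm)))
  have two_four : ∀ v, v ≠ 0 → F v = 2 ∨ F v = 4 := fun v hv => by rw [hF]; exact fix_three h3 (hcube v) (hne v hv)
  have hneg : ∀ v, F (v + v) = F v := fun v => by
    rw [hF, hF, ofAdd_add, map_mul, fix_sq (hcube v)]
  have plane : ∀ u w : ZMod 3 × ZMod 3 × ZMod 3, u ≠ 0 ∧ w ≠ 0 ∧ u + w ≠ 0 ∧ u + (w + w) ≠ 0 →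
      F u + F w + F (u + w) + F (u + w + w) = 14 := by
    intro u w ⟨n1, n2, n3, n4⟩
    have P : NinePair (f (Multiplicative.ofAdd u)) (f (Multiplicative.ofAdd w)) :=
      { pg := hcube u
        ph := hcube w
        comm := ((Commute.all (Multiplicative.ofAdd u) (Multiplicative.ofAdd w)).map f).eq
        n1 := hne u n1
        n2 := hne w n2
        n3 := by rw [← map_mul, ← ofAdd_add]; exact hne _ n3
        n4 := by rw [← map_mul, ← map_mul, ← ofAdd_add, ← ofAdd_add]; exact hne _ n4 }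
    have h := (four_fix h3 P).2
    have e1 : ∀ x y, f (Multiplicative.ofAdd (x + y)) =
        f (Multiplicative.ofAdd x) * f (Multiplicative.ofAdd y) := fun x y => by rw [ofAdd_add, map_mul]
    rw [← e1 w w, ← e1, ← e1, ← add_assoc] at h
    rw [hF, hF, hF, hF]
    exact h
  have plane' : ∀ u w a b : ZMod 3 × ZMod 3 × ZMod 3, u ≠ 0 ∧ w ≠ 0 ∧ u + w ≠ 0 ∧ u + (w + w) ≠ 0 →
      u + w = a → u + w + w = b → F u + F w + F a + F b = 14 := by
    intro u w a b hn ea eb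
    subst ea; subst eb
    exact plane u w hn
  have hneg' : ∀ a v : ZMod 3 × ZMod 3 × ZMod 3, v + v = a → F a = F v := by
    intro a v e
    subst e
    exact hneg v
  have p0 : F (0, 0, 1) + F (0, 1, 0) + F (0, 1, 1) + F (0, 2, 1) = 14 :=
    plane' (0, 0, 1) (0, 1, 0) (0, 1, 1) (0, 2, 1) (by decide) (by decide) (by decide)
  have p1 : F (0, 0, 1) + F (1, 0, 0) + F (1, 0, 1) + F (2, 0, 1) = 14 :=
    plane' (0, 0, 1) (1, 0, 0) (1, 0, 1) (2, 0, 1) (by decide) (by decide) (by decide)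
  have p2 : F (0, 0, 1) + F (1, 1, 0) + F (1, 1, 1) + F (2, 2, 1) = 14 :=
    plane' (0, 0, 1) (1, 1, 0) (1, 1, 1) (2, 2, 1) (by decide) (by decide) (by decide)
  have p3 : F (0, 0, 1) + F (1, 2, 0) + F (1, 2, 1) + F (2, 1, 1) = 14 :=
    plane' (0, 0, 1) (1, 2, 0) (1, 2, 1) (2, 1, 1) (by decide) (by decide) (by decide)
  have p4 : F (0, 1, 0) + F (1, 0, 0) + F (1, 1, 0) + F (2, 1, 0) = 14 :=
    plane' (0, 1, 0) (1, 0, 0) (1, 1, 0) (2, 1, 0) (by decide) (by decide) (by decide)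
  have p5 : F (0, 1, 0) + F (1, 0, 1) + F (1, 1, 1) + F (2, 1, 2) = 14 :=
    plane' (0, 1, 0) (1, 0, 1) (1, 1, 1) (2, 1, 2) (by decide) (by decide) (by decide)
  have p6 : F (0, 1, 0) + F (1, 0, 2) + F (1, 1, 2) + F (2, 1, 1) = 14 :=
    plane' (0, 1, 0) (1, 0, 2) (1, 1, 2) (2, 1, 1) (by decide) (by decide) (by decide)
  have p7 : F (0, 1, 1) + F (1, 0, 0) + F (1, 1, 1) + F (2, 1, 1) = 14 :=
    plane' (0, 1, 1) (1, 0, 0) (1, 1, 1) (2, 1, 1) (by decide) (by decide) (by decide)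
  have p8 : F (0, 1, 1) + F (1, 0, 1) + F (1, 1, 2) + F (2, 1, 0) = 14 :=
    plane' (0, 1, 1) (1, 0, 1) (1, 1, 2) (2, 1, 0) (by decide) (by decide) (by decide)
  have p9 : F (0, 1, 1) + F (1, 0, 2) + F (1, 1, 0) + F (2, 1, 2) = 14 :=
    plane' (0, 1, 1) (1, 0, 2) (1, 1, 0) (2, 1, 2) (by decide) (by decide) (by decide)
  have p10 : F (0, 1, 2) + F (1, 0, 0) + F (1, 1, 2) + F (2, 1, 2) = 14 :=
    plane' (0, 1, 2) (1, 0, 0) (1, 1, 2) (2, 1, 2) (by decide) (by decide) (by decide)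
  have p11 : F (0, 1, 2) + F (1, 0, 1) + F (1, 1, 0) + F (2, 1, 1) = 14 :=
    plane' (0, 1, 2) (1, 0, 1) (1, 1, 0) (2, 1, 1) (by decide) (by decide) (by decide)
  have p12 : F (0, 1, 2) + F (1, 0, 2) + F (1, 1, 1) + F (2, 1, 0) = 14 :=
    plane' (0, 1, 2) (1, 0, 2) (1, 1, 1) (2, 1, 0) (by decide) (by decide) (by decide)
  have n0 : F (0, 2, 1) = F (0, 1, 2) := hneg' (0, 2, 1) (0, 1, 2) (by decide)
  have n1 : F (2, 0, 1) = F (1, 0, 2) := hneg' (2, 0, 1) (1, 0, 2) (by decide)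
  have n2 : F (2, 1, 0) = F (1, 2, 0) := hneg' (2, 1, 0) (1, 2, 0) (by decide)
  have n3 : F (2, 1, 1) = F (1, 2, 2) := hneg' (2, 1, 1) (1, 2, 2) (by decide)
  have n4 : F (2, 1, 2) = F (1, 2, 1) := hneg' (2, 1, 2) (1, 2, 1) (by decide)
  have n5 : F (2, 2, 1) = F (1, 1, 2) := hneg' (2, 2, 1) (1, 1, 2) (by decide)
  rw [n0] at p0
  rw [n1] at p1
  rw [n5] at p2
  rw [n3] at p3
  rw [n2] at p4
  rw [n4] at p5
  rw [n3] at p6
  rw [n3] at p7
  rw [n2] at p8
  rw [n4] at p9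
  rw [n4] at p10
  rw [n3] at p11
  rw [n2] at p12
  exact thirteen_planes (F (0, 0, 1)) (F (0, 1, 0)) (F (0, 1, 1)) (F (0, 1, 2)) (F (1, 0, 0)) (F (1, 0, 1)) (F (1, 0, 2)) (F (1, 1, 0)) (F (1, 1, 1)) (F (1, 1, 2)) (F (1, 2, 0)) (F (1, 2, 1)) (F (1, 2, 2)) p0 p1 p2 p3 p4 p5 p6 p7 p8 p9 p10 p11 p12

end Cfsg.Agent.H75.GTwo
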