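import Cfsg.Prelude.Def_G2
import Mathlib

/-!
Trace, norm and the polar form of the split octonions, and their invariance under automorphisms.
-/

set_option autoImplicit false

namespace Cfsg.Agent.H75.GTwo.Oct

open Cfsg.Lie (zornMul dot3 cross3)
open scoped Matrix

variable {k : Type*} [Field k]

/-- The unit. -/
def one8 : Fin 8 → k := ![1, 0, 0, 0, 0, 0, 0, 1]

/-- The trace. -/
def tr : (Fin 8 → k) →ₗ[k] k where
  toFun x := x 0 + x 7
  map_add' x y := by simp; ring
  map_smul' c x := by simp; ring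

/-- The norm. -/
def nm (x : Fin 8 → k) : k := x 0 * x 7 - (x 1 * x 4 + x 2 * x 5 + x 3 * x 6)

/-- The polar form of the norm. -/
def pol : (Fin 8 → k) →ₗ[k] (Fin 8 → k) →ₗ[k] k :=
  LinearMap.mk₂ k (fun x y => x 0 * y 7 + x 7 * y 0 -
      (x 1 * y 4 + x 4 * y 1 + x 2 * y 5 + x 5 * y 2 + x 3 * y 6 + x 6 * y 3))
    (fun a b c => by simp; ring) (fun c a b => by simp; ring) (fun a b c => by simp; ring)
    (fun c a b => by simp; ring)

theorem nm_add (x y : Fin 8 → k) : nm (x + y) = nm x + nm y + pol x y := by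
  simp [nm, pol]; ring

theorem sq_eq (x : Fin 8 → k) : zornMul x x = tr x • x - nm x • one8 := by
  funext i; fin_cases i <;>
    simp [zornMul, one8, tr, nm, dot3, cross3, Cfsg.Lie.zA, Cfsg.Lie.zB] <;> ring

theorem one_mul8 (x : Fin 8 → k) : zornMul one8 x = x := by
  funext i; fin_cases i <;> simp [zornMul, one8, dot3, cross3, Cfsg.Lie.zA, Cfsg.Lie.zB]

theorem mul_one8 (x : Fin 8 → k) : zornMul x one8 = x := by
  funext i; fin_cases i <;> simp [zornMul, one8, dot3, cross3, Cfsg.Lie.zA, Cfsg.Lie.zB]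

set_option maxHeartbeats 2000000 in
/-- Left multiplication, as a bilinear map. -/
def mulL : (Fin 8 → k) →ₗ[k] (Fin 8 → k) →ₗ[k] (Fin 8 → k) :=
  LinearMap.mk₂ k zornMul
    (fun a b c => by funext i; fin_cases i <;> simp [zornMul, dot3, cross3, Cfsg.Lie.zA, Cfsg.Lie.zB] <;> ring)
    (fun r a b => by funext i; fin_cases i <;> simp [zornMul, dot3, cross3, Cfsg.Lie.zA, Cfsg.Lie.zB] <;> ring)
    (fun a b c => by funext i; fin_cases i <;> simp [zornMul, dot3, cross3, Cfsg.Lie.zA, Cfsg.Lie.zB] <;> ring)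
    (fun r a b => by funext i; fin_cases i <;> simp [zornMul, dot3, cross3, Cfsg.Lie.zA, Cfsg.Lie.zB] <;> ring)

theorem mulL_apply (x y : Fin 8 → k) : mulL x y = zornMul x y := rfl

set_option maxHeartbeats 1000000 in
theorem left_alt (x v : Fin 8 → k) : zornMul x (zornMul x v) = zornMul (zornMul x x) v := by
  funext i; fin_cases i <;>
    simp [zornMul, dot3, cross3, Cfsg.Lie.zA, Cfsg.Lie.zB] <;> ring

theorem eq_zero_of_pol (x : Fin 8 → k) (h : ∀ y, pol x y = 0) : x = 0 := by
  funext i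
  fin_cases i
  · simpa [pol] using h (Pi.single 7 1)
  · simpa [pol] using h (Pi.single 4 1)
  · simpa [pol] using h (Pi.single 5 1)
  · simpa [pol] using h (Pi.single 6 1)
  · simpa [pol] using h (Pi.single 1 1)
  · simpa [pol] using h (Pi.single 2 1)
  · simpa [pol] using h (Pi.single 3 1)
  · simpa [pol] using h (Pi.single 0 1)

/-- The action of the octonion automorphisms. -/
def act : ↥(Cfsg.Lie.G2 k) →* Module.End k (Fin 8 → k) :=
  ((Matrix.toLinAlgEquiv' : Matrix (Fin 8) (Fin 8) k ≃ₐ[k] _).toMonoidHom.comp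
    (Units.coeHom _)).comp (Cfsg.Lie.G2 k).subtype

theorem act_apply (g : ↥(Cfsg.Lie.G2 k)) (x : Fin 8 → k) :
    act g x = (Units.coeHom _ (g : GL (Fin 8) k)) *ᵥ x := rfl

theorem act_mul (g : ↥(Cfsg.Lie.G2 k)) (x y : Fin 8 → k) :
    act g (zornMul x y) = zornMul (act g x) (act g y) := g.2 x y

theorem act_injective : Function.Injective (act (k := k)) := fun a b h =>
  Subtype.ext (Units.ext ((Matrix.toLinAlgEquiv' : Matrix (Fin 8) (Fin 8) k ≃ₐ[k] _).injective h))

theorem act_inv (g : ↥(Cfsg.Lie.G2 k)) (x : Fin 8 → k) : act g (act g⁻¹ x) = x := by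
  rw [← Module.End.mul_apply, ← map_mul, mul_inv_cancel, map_one, Module.End.one_apply]

theorem act_inv' (g : ↥(Cfsg.Lie.G2 k)) (x : Fin 8 → k) : act g⁻¹ (act g x) = x := by
  rw [← Module.End.mul_apply, ← map_mul, inv_mul_cancel, map_one, Module.End.one_apply]

theorem act_one8 (g : ↥(Cfsg.Lie.G2 k)) : act g one8 = one8 := by
  have h := act_mul g one8 (act g⁻¹ one8)
  rw [one_mul8, act_inv, mul_one8] at h
  exact h.symm

theorem act_tr_nm (g : ↥(Cfsg.Lie.G2 k)) (x : Fin 8 → k) :
    tr (act g x) = tr x ∧ nm (act g x) = nm x := by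
  have h := act_mul g x x
  rw [sq_eq x, sq_eq (act g x), map_sub, map_smul, map_smul, act_one8] at h
  by_cases hd : tr (act g x) = tr x
  · refine ⟨hd, ?_⟩
    rw [hd] at h
    have := congrFun (sub_right_inj.1 h) 0
    simpa [one8] using this.symm
  · exfalso
    obtain ⟨c, hc⟩ : ∃ c : k, act g x = c • one8 := by
      refine ⟨(tr x - tr (act g x))⁻¹ * (nm x - nm (act g x)), ?_⟩
      rw [mul_smul, eq_inv_smul_iff₀ (sub_ne_zero.mpr (Ne.symm hd)), sub_smul, sub_smul]
      rw [sub_eq_sub_iff_sub_eq_sub]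
      linear_combination (norm := module) h
    have hx : x = c • one8 := by
      rw [← act_inv' g x, hc, map_smul, act_one8]
    exact hd (by rw [hc, ← hx])

theorem act_pol (g : ↥(Cfsg.Lie.G2 k)) (x y : Fin 8 → k) : pol (act g x) (act g y) = pol x y := by
  have h := nm_add (act g x) (act g y)
  rw [← map_add, (act_tr_nm g _).2, (act_tr_nm g x).2, (act_tr_nm g y).2, nm_add] at h
  linear_combination -h

end Cfsg.Agent.H75.GTwo.Oct
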